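/-
CALL S1435 (helper23), piece PCENT: `K` centralizes a `p`-subgroup `P` of `H` that it normalizes.
-/
import Mathlib
import Cfsg.Agent.Helper23.BG65Defs
import Cfsg.Agent.S1420
import Cfsg.Agent.Helper21.Coprime
import Cfsg.Agent.Helper50.BG14SET1

set_option autoImplicit false

namespace Cfsg.Agent.Helper11

open Cfsg Subgroup

open scoped commutatorElement

universe u

variable {G : Type u} [Group G] [Finite G] {M K U Mstar H : Subgroup G}

/-- PCENT. `K` centralizes a `p`-subgroup `P` of `H` that it normalizes (`p = |K|`). -/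
theorem bg65_P_cent (h : Cfsg.Agent.Helper23.BG65H M K U Mstar H) {P : Subgroup G} (hPH : P ≤ H)
    (hP : IsPGroup (Nat.card K) P) (hKP : K ≤ normalizer (P : Set G)) :
    ∀ k ∈ K, ∀ a ∈ P, k * a = a * k := by
  have hG := h.hG
  have hp := h.hKp
  have : Fact (Nat.card K).Prime := ⟨hp⟩
  have hκ : IsPiHallOf (kappa H) (⊥ : Subgroup G) H :=
    ⟨bot_le, fun q hq hqd => by
      rw [Subgroup.card_bot] at hqd
      exact absurd (Nat.dvd_one.mp hqd) hq.one_lt.ne', fun q _ hqκ => absurd hqκ (h.hκ q)⟩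
  obtain ⟨E, hE, -⟩ := Cfsg.Agent.Helper50.bg14_exists_compl hG h.hH hκ
  have hN : Nat.card ↥(P ⊔ K) ∣ Nat.card P * Nat.card K := Cfsg.Agent.Helper21.card_sup_dvd hKP
  obtain ⟨n, hn⟩ := IsPGroup.iff_card.mp hP
  have hNp : IsPGroup (Nat.card K) ↥(P ⊔ K) := by
    rw [hn, ← pow_succ] at hN
    obtain ⟨m, -, hm⟩ := (Nat.dvd_prime_pow hp).mp hN
    exact IsPGroup.of_card hm
  have hNnil : Group.IsNilpotent ↥(P ⊔ K) := hNp.isNilpotent
  have hNH : P ⊔ K ≤ H := sup_le hPH h.hKH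
  have hcomm : IsMulCommutative ↥(P ⊔ K) :=
    (Cfsg.Agent.S1420.result hG H h.hH E hE).1 (P ⊔ K) hNH hNnil (by
      intro q hq hqN hqσ
      obtain ⟨m, hm⟩ := IsPGroup.iff_card.mp hNp
      rw [hm] at hqN
      have h4 := (Nat.prime_dvd_prime_iff_eq hq hp).mp (hq.dvd_of_dvd_pow hqN)
      exact h.hpσ (h4 ▸ hqσ))
  intro k hk a ha
  have h5 := mul_comm' (⟨k, (le_sup_right : K ≤ P ⊔ K) hk⟩ : ↥(P ⊔ K))
    ⟨a, (le_sup_left : P ≤ P ⊔ K) ha⟩
  exact congrArg Subtype.val h5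

end Cfsg.Agent.Helper11
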