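import Mathlib
import Cfsg.Prelude.Def_Transfer
import Cfsg.Prelude.Def_Local
import Cfsg.Prelude.Def_PLocal
import Cfsg.Agent.Helper11.ZJ

/-!
# Glauberman's ZJ-theorem with p-stability only for quadratically acting subgroups (helper11)

Variants `zj_inf_normal'`, `zj_generic'` of the theorems of `ZJ.lean` whose stability hypothesis
is only required for subgroups `A` of the Sylow subgroup acting quadratically as a whole.
-/

set_option autoImplicit false

namespace Cfsg.Agent.Helper11

open Cfsg
open scoped commutatorElement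

/-- The key step of Glauberman's ZJ-theorem, for a general family of "largest" subgroups: the
intersection `X` of the family of `S` meets every normal `p`-subgroup in a normal subgroup. -/
theorem zj_inf_normal' {G : Type*} [Group G] [Finite G] {p : ℕ} [Fact p.Prime] (hp : p ≠ 2)
    (S : Sylow p G)
    (hst : ∀ (V : Subgroup G) [V.Normal], IsPGroup p V → ∀ A : Subgroup G, A ≤ (S : Subgroup G) →
      ⁅⁅V, A⁆, A⁆ = ⊥ → ∀ a ∈ A, (QuotientGroup.mk a : G ⧸ Subgroup.centralizer (V : Set G)) ∈
        pCore p (G ⧸ Subgroup.centralizer (V : Set G)))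
    (Pr : Subgroup G → Prop) (hcomm : ∀ A, Pr A → IsMulCommutative A) (hbot : Pr ⊥)
    (hmap : ∀ (φ : G ≃* G) (A : Subgroup G), Pr A → Pr (A.map φ.toMonoidHom))
    (hrep : ∀ A A' : Subgroup G, Pr A → IsMulCommutative A' → Nat.card A' = Nat.card A →
      Monoid.exponent A' ∣ Monoid.exponent A → Pr A') :
    ∀ (n : ℕ) (B : Subgroup G), B.Normal → IsPGroup p B → Nat.card B ≤ n →
      (sInf (maxFamily Pr (S : Subgroup G)) ⊓ B).Normal := by
  intro n
  induction n with
  | zero =>
    intro B _ _ hcard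
    have := Nat.card_pos (α := B)
    omega
  | succ n ih =>
    intro B hBn hBp hcard
    by_contra hnot
    set X := sInf (maxFamily Pr (S : Subgroup G)) with hXdef
    obtain ⟨A₀, hA₀⟩ := maxFamily_nonempty Pr hbot (S : Subgroup G)
    have hXA : ∀ A ∈ maxFamily Pr (S : Subgroup G), X ≤ A := fun A hA => sInf_le hA
    have hXS : X ≤ S := (hXA A₀ hA₀).trans hA₀.1
    have hXnorm : ∀ s ∈ (S : Subgroup G), ∀ x ∈ X, s * x * s⁻¹ ∈ X := fun s hs x hx =>
      sInf_maxFamily_conj Pr hmap (S : Subgroup G) s (Subgroup.le_normalizer hs) x hx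
    have hBS : B ≤ S := hBp.le_sylow_of_normal S
    -- Step 1: `B` is the normal closure of `X ⊓ B`
    set L₀ := Subgroup.normalClosure ((X ⊓ B : Subgroup G) : Set G) with hL₀def
    have hL₀B : L₀ ≤ B := Subgroup.normalClosure_le_normal (fun x hx => hx.2)
    have hL₀n : L₀.Normal := Subgroup.normalClosure_normal
    have hXL₀ : X ⊓ L₀ = X ⊓ B :=
      le_antisymm (inf_le_inf_left X hL₀B) (le_inf inf_le_left Subgroup.le_normalClosure)
    have hL₀eq : L₀ = B := by
      by_contra hne
      have hcardlt : Nat.card L₀ < Nat.card B := by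
        by_contra hge
        push Not at hge
        exact hne (Subgroup.eq_of_le_of_card_ge hL₀B hge)
      have := ih L₀ hL₀n (hBp.to_le hL₀B) (by omega)
      rw [hXL₀] at this
      exact hnot this
    -- Step 2: the commutator subgroup
    have hBbot : B ≠ ⊥ := by
      intro hB
      apply hnot
      rw [hB, inf_bot_eq]
      infer_instance
    have hB'n : (⁅B, B⁆ : Subgroup G).Normal := inferInstance
    have hB'B : ⁅B, B⁆ ≤ B := Subgroup.commutator_le_right B B
    have hB'card : Nat.card (⁅B, B⁆ : Subgroup G) < Nat.card B := by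
      by_contra hge
      push Not at hge
      exact commutator_ne_self_of_isPGroup B hBp hBbot (Subgroup.eq_of_le_of_card_ge hB'B hge)
    have hN₀ : (X ⊓ ⁅B, B⁆).Normal := ih ⁅B, B⁆ hB'n (hBp.to_le hB'B) (by omega)
    have hB'X : ⁅B, B⁆ ≤ X := by
      have key : ∀ w ∈ ((X ⊓ B : Subgroup G) : Set G), ∀ y ∈ B, ⁅w, y⁆ ∈ X ⊓ ⁅B, B⁆ := by
        intro w hw y hy
        rw [Subgroup.mem_inf]
        constructor
        · have h1 := hXnorm y (hBS hy) w⁻¹ (X.inv_mem hw.1)
          have e : ⁅w, y⁆ = w * (y * w⁻¹ * y⁻¹) := by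
            simp only [commutatorElement_def]; group
          rw [e]
          exact X.mul_mem hw.1 h1
        · exact Subgroup.commutator_mem_commutator hw.2 hy
      have h2 := commutator_mem_of_mem_normalClosure _ B (X ⊓ ⁅B, B⁆) key
      have h3 : ⁅B, B⁆ ≤ X ⊓ ⁅B, B⁆ := by
        rw [Subgroup.commutator_le]
        intro x hx y hy
        apply h2 x _ y hy
        rw [← hL₀def, hL₀eq]
        exact hx
      exact h3.trans inf_le_left
    -- Step 3: the centralizer of `B` and the preimage of `O_p(G / C)`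
    set C := Subgroup.centralizer (B : Set G) with hCdef
    have hCn : C.Normal := inferInstance
    set L := (pCore p (G ⧸ C)).comap (QuotientGroup.mk' C) with hLdef
    have hLn : L.Normal := (pCore_normal p (G ⧸ C)).comap (QuotientGroup.mk' C)
    set R := (S : Subgroup G) ⊓ L with hRdef
    have hLRC : ∀ x ∈ L, ∃ r ∈ R, ∃ c ∈ C, x = r * c := by
      intro x hx
      have h1 : pCore p (G ⧸ C) ≤ S.mapSurjective (QuotientGroup.mk'_surjective C) :=
        pCore_le_sylow _
      have h2 := h1 (Subgroup.mem_comap.mp hx)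
      obtain ⟨s, hs, hsx⟩ := h2
      have hsL : s ∈ L := by
        rw [hLdef, Subgroup.mem_comap, hsx]
        exact Subgroup.mem_comap.mp hx
      have hc : s⁻¹ * x ∈ C := QuotientGroup.eq.mp hsx
      exact ⟨s, Subgroup.mem_inf.mpr ⟨hs, hsL⟩, s⁻¹ * x, hc, by group⟩
    have hfact : ∀ g : G, ∃ c ∈ C, ∃ m ∈ Subgroup.normalizer (R : Set G), g = c * m := by
      intro g
      obtain ⟨l, hl, m, hm, rfl⟩ := frattini_inf S L g
      obtain ⟨r, hr, c, hc, rfl⟩ := hLRC l hl
      exact ⟨r * c * r⁻¹, hCn.conj_mem c hc r, r * m,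
        Subgroup.mul_mem _ (Subgroup.le_normalizer hr) hm, by group⟩
    -- Step 4: a subgroup normalized by `N(R)` meets `B` in a normal subgroup
    have hnormal : ∀ Y : Subgroup G,
        (∀ m ∈ Subgroup.normalizer (R : Set G), ∀ y ∈ Y, m * y * m⁻¹ ∈ Y) → (Y ⊓ B).Normal := by
      intro Y hY
      constructor
      intro z hz g
      obtain ⟨c, hc, m, hm, rfl⟩ := hfact g
      rw [Subgroup.mem_inf] at hz
      have h1 : m * z * m⁻¹ ∈ Y ⊓ B :=
        Subgroup.mem_inf.mpr ⟨hY m hm z hz.1, hBn.conj_mem z hz.2 m⟩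
      have h2 : m * z * m⁻¹ * c = c * (m * z * m⁻¹) :=
        (Subgroup.mem_centralizer_iff.mp hc) _ (Subgroup.mem_inf.mp h1).2
      have e : c * m * z * (c * m)⁻¹ = c * (m * z * m⁻¹) * c⁻¹ := by group
      rw [e, ← h2]
      have e2 : m * z * m⁻¹ * c * c⁻¹ = m * z * m⁻¹ := by group
      rw [e2]
      exact h1
    have hXRn : (sInf (maxFamily Pr R) ⊓ B).Normal :=
      hnormal _ (fun m hm y hy => sInf_maxFamily_conj Pr hmap R m hm y hy)
    -- Step 5: the two cases
    by_cases hall : ∀ A ∈ maxFamily Pr (S : Subgroup G), A ≤ L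
    · have hA₀R : A₀ ≤ R := le_inf hA₀.1 (hall A₀ hA₀)
      have heq : maxFamily Pr R = maxFamily Pr (S : Subgroup G) := by
        ext A
        rw [maxFamily_restrict Pr R S A₀ inf_le_left hA₀ hA₀R]
        exact ⟨fun h => h.1, fun h => ⟨h, le_inf h.1 (hall A h)⟩⟩
      rw [heq] at hXRn
      exact hnot hXRn
    · push Not at hall
      obtain ⟨A, ⟨hA, hAL⟩, hmax⟩ := Set.exists_max_image
        {A : Subgroup G | A ∈ maxFamily Pr (S : Subgroup G) ∧ ¬ A ≤ L}
        (fun A => Nat.card ↥(A ⊓ B)) (Set.toFinite _) hall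
      have hB'A : ⁅B, B⁆ ≤ A := hB'X.trans (hXA A hA)
      have hAc : IsMulCommutative A := hcomm A hA.2.1
      have hBNA : ¬ B ≤ Subgroup.normalizer (A : Set G) := by
        intro hBN
        apply hAL
        intro a ha
        have hquad : ⁅⁅B, A⁆, A⁆ = ⊥ := by
          have h1 : ⁅B, A⁆ ≤ A := by
            rw [Subgroup.commutator_le]
            intro b hb z hz
            have := ((Subgroup.mem_normalizer_iff.mp (hBN hb)) z).mp hz
            rw [commutatorElement_def]
            exact A.mul_mem this (A.inv_mem hz)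
          have h2 : ⁅A, A⁆ = ⊥ := by
            rw [eq_bot_iff, Subgroup.commutator_le]
            intro x hx y hy
            rw [Subgroup.mem_bot, commutatorElement_eq_one_iff_mul_comm]
            exact (isMulCommutative_iff_of_setLike.mp hAc) x hx y hy
          rw [eq_bot_iff, ← h2]
          exact Subgroup.commutator_mono h1 le_rfl
        have := hst B hBp A hA.1 hquad a ha
        exact Subgroup.mem_comap.mpr this
      have hSB : (S : Subgroup G) ≤ Subgroup.normalizer (B : Set G) := by
        rw [Subgroup.normalizer_eq_top]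
        exact le_top
      obtain ⟨A', hA'S, hA'c, hA'card, hlt, hA'N, hexp⟩ :=
        replacement_in hp S B A S.isPGroup' hBS hSB hA.1 hAc hB'A hBNA
      have hA'mem : A' ∈ maxFamily Pr (S : Subgroup G) :=
        ⟨hA'S, hrep A A' hA.2.1 hA'c hA'card hexp, fun Y hY hYPr => by
          rw [hA'card]; exact hA.2.2 Y hY hYPr⟩
      have hA'L : A' ≤ L := by
        by_contra h
        have hle := hmax A' ⟨hA'mem, h⟩
        exact hlt.ne (Subgroup.eq_of_le_of_card_ge hlt.le hle)
      have hA'R : A' ≤ R := le_inf hA'S hA'L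
      have hres := maxFamily_restrict Pr R S A' inf_le_left hA'mem hA'R
      have hXXR : X ≤ sInf (maxFamily Pr R) := by
        apply le_sInf
        intro A₁ hA₁
        exact sInf_le ((hres A₁).mp hA₁).1
      have hXRA' : sInf (maxFamily Pr R) ≤ A' := sInf_le ((hres A').mpr ⟨hA'mem, hA'R⟩)
      have hBle : L₀ ≤ sInf (maxFamily Pr R) ⊓ B :=
        Subgroup.normalClosure_le_normal (inf_le_inf_right B hXXR)
      rw [hL₀eq] at hBle
      exact hBNA ((hBle.trans inf_le_left).trans (hXRA'.trans hA'N))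

/-- Generic form of Glauberman's ZJ-theorem: for odd `p`, if `C_G(O_p(G)) ≤ O_p(G)` and `G` acts
`p`-stably on its normal `p`-subgroups, then the intersection of the subgroups of largest order
among those subgroups of a Sylow `p`-subgroup `S` having the property `Pr` is characteristic
in `G`. -/
theorem zj_generic' {G : Type*} [Group G] [Finite G] {p : ℕ} [Fact p.Prime] (hp : p ≠ 2)
    (hc : Subgroup.centralizer (pCore p G : Set G) ≤ pCore p G)
    (S : Sylow p G)
    (hst : ∀ (V : Subgroup G) [V.Normal], IsPGroup p V → ∀ A : Subgroup G, A ≤ (S : Subgroup G) →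
      ⁅⁅V, A⁆, A⁆ = ⊥ → ∀ a ∈ A, (QuotientGroup.mk a : G ⧸ Subgroup.centralizer (V : Set G)) ∈
        pCore p (G ⧸ Subgroup.centralizer (V : Set G)))
    (Pr : Subgroup G → Prop) (hcomm : ∀ A, Pr A → IsMulCommutative A) (hbot : Pr ⊥)
    (hmap : ∀ (φ : G ≃* G) (A : Subgroup G), Pr A → Pr (A.map φ.toMonoidHom))
    (hrep : ∀ A A' : Subgroup G, Pr A → IsMulCommutative A' → Nat.card A' = Nat.card A →
      Monoid.exponent A' ∣ Monoid.exponent A → Pr A') :
    (sInf (maxFamily Pr (S : Subgroup G))).Characteristic := by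
  set X := sInf (maxFamily Pr (S : Subgroup G)) with hXdef
  obtain ⟨A₀, hA₀⟩ := maxFamily_nonempty Pr hbot (S : Subgroup G)
  have hXA : ∀ A ∈ maxFamily Pr (S : Subgroup G), X ≤ A := fun A hA => sInf_le hA
  have hXnorm : ∀ s ∈ (S : Subgroup G), ∀ x ∈ X, s * x * s⁻¹ ∈ X := fun s hs x hx =>
    sInf_maxFamily_conj Pr hmap (S : Subgroup G) s (Subgroup.le_normalizer hs) x hx
  have hA₀c : IsMulCommutative A₀ := hcomm A₀ hA₀.2.1
  have hXcomm : ∀ x ∈ X, ∀ y ∈ X, x * y = y * x := fun x hx y hy =>
    (isMulCommutative_iff_of_setLike.mp hA₀c) x (hXA A₀ hA₀ hx) y (hXA A₀ hA₀ hy)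
  have hQn : (pCore p G).Normal := pCore_normal p G
  have hQp : IsPGroup p (pCore p G) := pCore_isPGroup p G
  have hQS : pCore p G ≤ S := pCore_le_sylow S
  have hXQ : X ≤ pCore p G := by
    intro x hx
    have hquad : ⁅⁅pCore p G, X⁆, X⁆ = ⊥ := by
      have h1 : ⁅pCore p G, X⁆ ≤ X := by
        rw [Subgroup.commutator_le]
        intro q hq z hz
        have := hXnorm q (hQS hq) z hz
        rw [commutatorElement_def]
        exact X.mul_mem this (X.inv_mem hz)
      have h2 : ⁅X, X⁆ = ⊥ := by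
        rw [eq_bot_iff, Subgroup.commutator_le]
        intro a ha b hb
        rw [Subgroup.mem_bot, commutatorElement_eq_one_iff_mul_comm]
        exact hXcomm a ha b hb
      rw [eq_bot_iff, ← h2]
      exact Subgroup.commutator_mono h1 le_rfl
    have h1 := hst (pCore p G) hQp X ((hXA A₀ hA₀).trans hA₀.1) hquad x hx
    set C := Subgroup.centralizer (pCore p G : Set G) with hCdef
    have hCn : C.Normal := inferInstance
    set M := (pCore p (G ⧸ C)).comap (QuotientGroup.mk' C) with hMdef
    have hMn : M.Normal := (pCore_normal p (G ⧸ C)).comap (QuotientGroup.mk' C)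
    have hMp : IsPGroup p M := by
      rintro ⟨m, hm⟩
      have hq := pCore_isPGroup p (G ⧸ C)
      obtain ⟨k, hk⟩ := hq ⟨QuotientGroup.mk' C m, Subgroup.mem_comap.mp hm⟩
      have h2 : m ^ p ^ k ∈ C := by
        have h3 := congrArg Subtype.val hk
        rw [Subgroup.coe_pow, Subgroup.coe_one] at h3
        rw [← QuotientGroup.eq_one_iff]
        exact h3
      obtain ⟨j, hj⟩ := hQp ⟨m ^ p ^ k, hc h2⟩
      refine ⟨k + j, ?_⟩
      apply Subtype.ext
      have h4 := congrArg Subtype.val hj
      rw [Subgroup.coe_pow, Subgroup.coe_one] at h4 ⊢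
      rw [pow_add, pow_mul]
      exact h4
    exact le_pCore M hMp (Subgroup.mem_comap.mpr h1)
  have hXn : X.Normal := by
    have := zj_inf_normal' hp S hst Pr hcomm hbot hmap hrep (Nat.card (pCore p G)) (pCore p G)
      hQn hQp le_rfl
    rwa [inf_eq_left.mpr hXQ] at this
  rw [Subgroup.characteristic_iff_map_le]
  intro φ
  rintro _ ⟨x, hx, rfl⟩
  have h1 := sInf_maxFamily_map Pr hmap φ S x hx
  obtain ⟨g, hg⟩ := MulAction.exists_smul_eq G (φ • S) S
  have hmem : ∀ s ∈ (S : Subgroup G), g * φ s * g⁻¹ ∈ (S : Subgroup G) := by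
    intro s hs
    have h2 : g * φ s * g⁻¹ ∈ ((g • (φ • S) : Sylow p G) : Set G) := by
      rw [Sylow.coe_smul]
      exact ⟨φ s, ⟨s, hs, rfl⟩, rfl⟩
    rw [hg] at h2
    exact h2
  have hSeq : ((S : Subgroup G).map φ.toMonoidHom).map (MulAut.conj g).toMonoidHom = S := by
    apply Subgroup.eq_of_le_of_card_ge
    · rintro _ ⟨_, ⟨s, hs, rfl⟩, rfl⟩
      exact hmem s hs
    · rw [Subgroup.card_map_of_injective (show Function.Injective (MulAut.conj g).toMonoidHom from
        (MulAut.conj g).injective),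
        Subgroup.card_map_of_injective (show Function.Injective φ.toMonoidHom from φ.injective)]
  have h2 := sInf_maxFamily_map Pr hmap (MulAut.conj g) _ (φ x) h1
  rw [hSeq] at h2
  have h3 := hXn.conj_mem _ h2 g⁻¹
  have e : g⁻¹ * ((MulAut.conj g) (φ x)) * g⁻¹⁻¹ = φ x := by
    rw [MulAut.conj_apply]; group
  rw [e] at h3
  exact h3


end Cfsg.Agent.Helper11
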