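/-
CALL S1357 (helper1), piece FRA: pure arithmetic.
-/
import Mathlib

set_option autoImplicit false

namespace Cfsg.Agent.Helper11

theorem bg152_arith {n p c c₀ s t : ℕ} (hpn : p < n) (hc : 0 < c) (hc₀ : 0 < c₀) (hs : 0 < s)
    (ht : 0 < t) (h1 : c₀ ^ n * t = c ^ n * s) (h2 : c₀ ^ p * t = c ^ p * s) : c₀ = c := by
  obtain ⟨k, rfl⟩ : ∃ k, n = p + (k + 1) := ⟨n - p - 1, by omega⟩
  have h3 : c₀ ^ (k + 1) * (c₀ ^ p * c ^ p * (t * s)) =
      c ^ (k + 1) * (c₀ ^ p * c ^ p * (t * s)) := by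
    calc c₀ ^ (k + 1) * (c₀ ^ p * c ^ p * (t * s))
        = (c₀ ^ (p + (k + 1)) * t) * (c ^ p * s) := by ring
      _ = (c ^ (p + (k + 1)) * s) * (c₀ ^ p * t) := by rw [h1, ← h2]
      _ = c ^ (k + 1) * (c₀ ^ p * c ^ p * (t * s)) := by ring
  have hpos : 0 < c₀ ^ p * c ^ p * (t * s) := by positivity
  have h4 := Nat.eq_of_mul_eq_mul_right hpos h3
  exact Nat.pow_left_injective (Nat.succ_ne_zero k) h4

end Cfsg.Agent.Helper11
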