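/-
CALL S1357 (helper1), piece QF (double): for a prime `q ∣ |K*|` a Sylow `q`-subgroup of `M_σ` lies
in `F(M)` and `M` is the only maximal subgroup containing it.
-/
import Mathlib
import Cfsg.Agent.S1364
import Cfsg.Agent.S1431
import Cfsg.Agent.Helper23.FittingHall

set_option autoImplicit false

namespace Cfsg.Agent.Helper11

open Cfsg Subgroup

universe u

variable {G : Type u} [Group G] [Finite G]

theorem bg152_exists_Q (hG : IsMinSimpleOddOrder G) {M K U : Subgroup G} (hM : IsCoatom M)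
    (hKU : IsSigmaDecomposition M K U) (hK1 : K ≠ ⊥) {q : ℕ} (hq : q.Prime)
    (hqK : q ∣ Nat.card ↥(sigmaCore M ⊓ centralizer (K : Set G))) :
    ∃ Q : Subgroup G, Q ≤ fittingOf M ∧ IsPGroup q Q ∧ InUniqueMaximal Q := by
  have : Fact q.Prime := ⟨hq⟩
  obtain ⟨-, -, h3, -⟩ := Cfsg.Agent.S1431.result hG M hM K hKU.hall hK1
  obtain ⟨-, -, hKsF, -⟩ := Cfsg.Agent.S1364.result hG M hM K U hKU hK1
  obtain ⟨S⟩ : Nonempty (Sylow q ↥(sigmaCore M)) := inferInstance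
  obtain ⟨hU, hSM, -⟩ := h3 q hq hqK S
  refine ⟨(S : Subgroup ↥(sigmaCore M)).map (sigmaCore M).subtype, ?_, S.isPGroup'.map _, hU⟩
  have hqF : q ∣ Nat.card (fittingHall ↥M) := by
    rw [← Cfsg.Agent.Helper23.card_fittingHallOf]
    exact hqK.trans (Subgroup.card_dvd_of_le hKsF)
  have hFF : fittingHallOf M ≤ fittingOf M := by
    refine Subgroup.map_mono (sSup_le_sSup ?_)
    rintro N ⟨hNn, hNnil, -⟩
    exact ⟨hNn, hNnil⟩
  refine le_trans ?_ hFF
  rintro _ ⟨x, hx, rfl⟩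
  have hxM : ((sigmaCore M).subtype x : G) ∈ M := hSM ⟨x, hx, rfl⟩
  obtain ⟨k, hk⟩ := (IsPGroup.iff_orderOf.mp S.isPGroup') ⟨x, hx⟩
  have h1 : orderOf ((sigmaCore M).subtype x : G) = q ^ k := by
    rw [← hk, ← Subgroup.orderOf_coe (⟨x, hx⟩ : ↥(S : Subgroup ↥(sigmaCore M)))]
    exact Subgroup.orderOf_coe x
  have hord : orderOf (⟨(sigmaCore M).subtype x, hxM⟩ : ↥M) = q ^ k := by
    rw [← h1, ← Subgroup.orderOf_coe (⟨(sigmaCore M).subtype x, hxM⟩ : ↥M)]
  have hcop : (orderOf (⟨(sigmaCore M).subtype x, hxM⟩ : ↥M)).Coprime (fittingHall ↥M).index := by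
    rw [hord]
    apply Nat.Coprime.pow_left
    exact Nat.Coprime.coprime_dvd_left hqF (Cfsg.Agent.Helper23.fittingHall_coprime ↥M)
  have hmem := Cfsg.Agent.Helper23.mem_of_coprime_orderOf_index (fittingHall ↥M) _ hcop
  exact ⟨_, hmem, rfl⟩

end Cfsg.Agent.Helper11
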