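/-
CALL BG18 (helper25), piece NORM: a maximal subgroup of a minimal simple group of odd order is
self-normalising.
-/
import Mathlib
import Cfsg.Prelude.Def_OddOrderLocal

set_option autoImplicit false

namespace Cfsg.Agent.Helper11

open Cfsg Subgroup

universe u

variable {G : Type u} [Group G] [Finite G]

/-- NORM. A maximal subgroup is self-normalising: `g M g⁻¹ = M` forces `g ∈ M`. -/
theorem bg18_mem_of_conj_eq (hG : IsMinSimpleOddOrder G) {M : Subgroup G} (hM : IsCoatom M)
    {g : G} (h : M.map (MulAut.conj g).toMonoidHom = M) : g ∈ M := by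
  have hsimple : IsSimpleGroup G := hG.2.1
  have hnc : ¬ IsMulCommutative G := hG.2.2.1
  have hgN : g ∈ normalizer (M : Set G) := Subgroup.mem_normalizer_iff_map_conj_eq.mpr h
  by_contra hgM
  have hlt : M < normalizer (M : Set G) := by
    refine lt_of_le_of_ne Subgroup.le_normalizer ?_
    intro heq
    apply hgM
    rw [heq]
    exact hgN
  have htop : normalizer (M : Set G) = ⊤ := hM.2 _ hlt
  have hnormal : M.Normal := Subgroup.normalizer_eq_top_iff.mp htop
  rcases hnormal.eq_bot_or_eq_top with hbot | htop'
  · apply hnc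
    refine ⟨⟨fun a b => ?_⟩⟩
    by_cases ha : a = 1
    · rw [ha, one_mul, mul_one]
    · have hz : zpowers a = ⊤ := by
        apply hM.2
        rw [hbot]
        refine bot_lt_iff_ne_bot.mpr ?_
        intro hzb
        exact ha (Subgroup.zpowers_eq_bot.mp hzb)
      have hb : b ∈ zpowers a := by rw [hz]; exact Subgroup.mem_top b
      obtain ⟨k, hk⟩ := Subgroup.mem_zpowers_iff.mp hb
      rw [← hk]
      exact ((Commute.refl a).zpow_right k).eq
  · exact hM.1 htop'

end Cfsg.Agent.Helper11
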