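/-
CALL BG18 (helper25), piece SIG: for `a ∈ M` and `N = |M_σ|`, `a ^ N = 1` forces `a ∈ M_σ`, and
`a ^ N` is a `σ(M)'`-element.
-/
import Mathlib
import Cfsg.Prelude.Def_OddOrderLocal
import Cfsg.Agent.S1403
import Cfsg.Agent.Helper22.BG10b
import Cfsg.Agent.Helper23.FittingHall

set_option autoImplicit false

namespace Cfsg.Agent.Helper11

open Cfsg Subgroup

universe u

variable {G : Type u} [Group G] [Finite G]

/-- SIG. For `a ∈ M` and `N = |M_σ|`: `a ^ N = 1` forces `a ∈ M_σ`, and `a ^ N` is a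
`σ(M)'`-element. -/
theorem bg18_sigma_pow (hG : IsMinSimpleOddOrder G) {M : Subgroup G} (hM : IsCoatom M) {a : G}
    (ha : a ∈ M) :
    (a ^ Nat.card (sigmaCore M) = 1 → a ∈ sigmaCore M) ∧
      ∀ p : ℕ, p.Prime → p ∣ orderOf (a ^ Nat.card (sigmaCore M)) → p ∉ sigma M := by
  have hU : Cfsg.Agent.Helper22.BGUniq G :=
    fun K hK h1 h2 => Cfsg.Agent.S1403.result hG K hK h1 h2
  obtain ⟨⟨hle, hpi, hidx⟩, -, -⟩ := Cfsg.Agent.Helper22.bg10_sigma_hall hG hU hM
  have hrel : (sigmaCore M).relIndex M = (piCore (sigma M) ↥M).index := by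
    unfold Subgroup.relIndex sigmaCore Subgroup.subgroupOf
    rw [Subgroup.comap_map_eq_self_of_injective M.subtype_injective]
  have hcard : Nat.card (sigmaCore M) * (sigmaCore M).relIndex M = Nat.card M := by
    have := Subgroup.relIndex_mul_relIndex ⊥ (sigmaCore M) M bot_le hle
    rwa [Subgroup.relIndex_bot_left, Subgroup.relIndex_bot_left] at this
  constructor
  · intro h1
    have hord : orderOf a ∣ Nat.card (sigmaCore M) := orderOf_dvd_of_pow_eq_one h1
    have hcop : (orderOf (⟨a, ha⟩ : ↥M)).Coprime (piCore (sigma M) ↥M).index := by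
      rw [Subgroup.orderOf_mk, ← hrel]
      apply Nat.coprime_of_dvd
      intro q hq hq1 hq2
      exact hidx q hq (hpi q hq (hq1.trans hord)) hq2
    have hmem := Cfsg.Agent.Helper23.mem_of_coprime_orderOf_index (piCore (sigma M) ↥M)
      ⟨a, ha⟩ hcop
    exact ⟨⟨a, ha⟩, hmem, rfl⟩
  · intro p hp hpd hpσ
    have h2 : (a ^ Nat.card (sigmaCore M)) ^ (sigmaCore M).relIndex M = 1 := by
      rw [← pow_mul, hcard]
      have : (⟨a, ha⟩ : ↥M) ^ Nat.card M = 1 := pow_card_eq_one'
      exact congrArg Subtype.val this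
    exact hidx p hp hpσ (hpd.trans (orderOf_dvd_of_pow_eq_one h2))

end Cfsg.Agent.Helper11
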