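import Mathlib
import Cfsg.Prelude.Def_OddOrderLocal

/-!
# Helper11: PIECE CJ of CALL BGC (helper25).
-/

set_option autoImplicit false

namespace Cfsg.Agent.Helper11

open Cfsg Subgroup

universe u

variable {G : Type u} [Group G] [Finite G]

/-- CJ (PURE). `N = E S` with `S` normal in `N`, `E ∩ S = 1`; `x ∈ E`, `c ∈ N`, `c⁻¹ x c ∈ E`.
Then `c = r e` with `r ∈ C_S(x)`, `e ∈ E`. -/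
theorem bgc_conj_compl {N S E : Subgroup G} (hE : IsComplIn E S N)
    (hSn : N ≤ normalizer (S : Set G)) {x c : G} (hx : x ∈ E) (hc : c ∈ N)
    (hcx : c⁻¹ * x * c ∈ E) :
    ∃ r ∈ S ⊓ centralizer ({x} : Set G), ∃ e ∈ E, c = r * e := by
  obtain ⟨hEN, hSN, hES, hprod⟩ := hE
  obtain ⟨e₀, he₀, s₀, hs₀, rfl⟩ := hprod c hc
  have hnorm : ∀ n ∈ N, ∀ s ∈ S, n * s * n⁻¹ ∈ S :=
    fun n hn s hs => (mem_normalizer_iff.mp (hSn hn) s).mp hs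
  -- `x₁ = e₀⁻¹ x e₀`
  have hx₁ : e₀⁻¹ * x * e₀ ∈ E := E.mul_mem (E.mul_mem (E.inv_mem he₀) hx) he₀
  have h1 : (e₀⁻¹ * x * e₀)⁻¹ * ((e₀ * s₀)⁻¹ * x * (e₀ * s₀)) ∈ E :=
    E.mul_mem (E.inv_mem hx₁) hcx
  have h2 : (e₀⁻¹ * x * e₀)⁻¹ * ((e₀ * s₀)⁻¹ * x * (e₀ * s₀)) ∈ S := by
    have h3 := hnorm _ (N.inv_mem (hEN hx₁)) _ (S.inv_mem hs₀)
    have h4 := S.mul_mem h3 hs₀
    have e : (e₀⁻¹ * x * e₀)⁻¹ * ((e₀ * s₀)⁻¹ * x * (e₀ * s₀))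
        = (e₀⁻¹ * x * e₀)⁻¹ * s₀⁻¹ * (e₀⁻¹ * x * e₀)⁻¹⁻¹ * s₀ := by group
    rw [e]
    exact h4
  have h5 : (e₀⁻¹ * x * e₀)⁻¹ * ((e₀ * s₀)⁻¹ * x * (e₀ * s₀)) = 1 := by
    have : (e₀⁻¹ * x * e₀)⁻¹ * ((e₀ * s₀)⁻¹ * x * (e₀ * s₀)) ∈ E ⊓ S := mem_inf.mpr ⟨h1, h2⟩
    rwa [hES, mem_bot] at this
  have h6 : (e₀ * s₀)⁻¹ * x * (e₀ * s₀) = e₀⁻¹ * x * e₀ := (inv_mul_eq_one.mp h5).symm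
  refine ⟨e₀ * s₀ * e₀⁻¹, mem_inf.mpr ⟨hnorm e₀ (hEN he₀) s₀ hs₀, ?_⟩, e₀, he₀, by group⟩
  rw [mem_centralizer_singleton_iff]
  calc e₀ * s₀ * e₀⁻¹ * x = (e₀ * s₀) * (e₀⁻¹ * x * e₀) * e₀⁻¹ := by group
    _ = (e₀ * s₀) * ((e₀ * s₀)⁻¹ * x * (e₀ * s₀)) * e₀⁻¹ := by rw [h6]
    _ = x * (e₀ * s₀ * e₀⁻¹) := by group

end Cfsg.Agent.Helper11
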