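import Mathlib
import Cfsg.Prelude.Def_OddOrderLocal
import Cfsg.Agent.Helper11.BGCCJ

/-!
# Helper11: PIECE CD of CALL BGC (helper25).
-/

set_option autoImplicit false

namespace Cfsg.Agent.Helper11

open Cfsg Subgroup

universe u

variable {G : Type u} [Group G] [Finite G]

/-- CD (PURE; CJ applied to `c⁻¹` for `c ∈ C_G(x)`). -/
theorem bgc_cent_compl {N S E : Subgroup G} (hE : IsComplIn E S N)
    (hSn : N ≤ normalizer (S : Set G)) {x : G} (hx : x ∈ E)
    (hCN : centralizer ({x} : Set G) ≤ N) :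
    IsComplIn (E ⊓ centralizer ({x} : Set G)) (S ⊓ centralizer ({x} : Set G))
      (centralizer ({x} : Set G)) := by
  refine ⟨inf_le_right, inf_le_right, ?_, ?_⟩
  · rw [eq_bot_iff]
    intro y hy
    have h1 : y ∈ E ⊓ S := mem_inf.mpr ⟨(mem_inf.mp (mem_inf.mp hy).1).1,
      (mem_inf.mp (mem_inf.mp hy).2).1⟩
    rw [hE.2.2.1] at h1
    exact h1
  · intro m hm
    have hmx : m * x = x * m := mem_centralizer_singleton_iff.mp hm
    have hcx : (m⁻¹)⁻¹ * x * m⁻¹ ∈ E := by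
      have e : (m⁻¹)⁻¹ * x * m⁻¹ = x := by rw [inv_inv, hmx]; group
      rw [e]
      exact hx
    obtain ⟨r, hr, e, he, hme⟩ := bgc_conj_compl hE hSn hx (N.inv_mem (hCN hm)) hcx
    have hrC : r ∈ centralizer ({x} : Set G) := (mem_inf.mp hr).2
    have heC : e ∈ centralizer ({x} : Set G) := by
      have e1 : e = r⁻¹ * m⁻¹ := by rw [hme]; group
      rw [e1]
      exact Subgroup.mul_mem _ (Subgroup.inv_mem _ hrC) (Subgroup.inv_mem _ hm)
    refine ⟨e⁻¹, mem_inf.mpr ⟨E.inv_mem he, Subgroup.inv_mem _ heC⟩, r⁻¹,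
      Subgroup.inv_mem _ hr, ?_⟩
    calc m = (m⁻¹)⁻¹ := (inv_inv m).symm
      _ = (r * e)⁻¹ := by rw [hme]
      _ = e⁻¹ * r⁻¹ := mul_inv_rev r e

end Cfsg.Agent.Helper11
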