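import Mathlib
import Cfsg.Prelude.Def_OddOrderLocal

/-!
# Helper11: PIECE PW of CALL BGC (helper25).
-/

set_option autoImplicit false

namespace Cfsg.Agent.Helper11

open Cfsg Subgroup

universe u

variable {G : Type u} [Group G] [Finite G]

/-- PW (PURE). The `π`-part as a power: `e = [G:S]^φ(|S|)` is `≡ 1 mod |S|` and `≡ 0 mod o(r)`. -/
theorem bgc_pow_part {S : Subgroup G} (hS : (Nat.card S).Coprime S.index) {a r : G}
    (ha : orderOf a ∣ Nat.card S) (hr : (orderOf r).Coprime (Nat.card S)) (har : a * r = r * a) :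
    (a * r) ^ (S.index ^ Nat.totient (Nat.card S)) = a := by
  have hcomm : Commute a r := har
  rw [hcomm.mul_pow]
  have hpos : 0 < Nat.card S := Nat.card_pos
  have hmod : S.index ^ Nat.totient (Nat.card S) ≡ 1 [MOD Nat.card S] :=
    Nat.ModEq.pow_totient hS.symm
  have ha1 : a ^ (S.index ^ Nat.totient (Nat.card S)) = a := by
    have h1 : S.index ^ Nat.totient (Nat.card S) ≡ 1 [MOD orderOf a] := hmod.of_dvd ha
    have h2 := pow_eq_pow_iff_modEq.mpr h1
    rw [h2, pow_one]
  have hr1 : r ^ (S.index ^ Nat.totient (Nat.card S)) = 1 := by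
    apply orderOf_dvd_iff_pow_eq_one.mp
    have h1 : orderOf r ∣ Nat.card S * S.index := by
      rw [Subgroup.card_mul_index]
      exact orderOf_dvd_natCard r
    have h2 : orderOf r ∣ S.index := hr.dvd_of_dvd_mul_left h1
    exact dvd_pow h2 (Nat.totient_pos.mpr hpos).ne'
  rw [ha1, hr1, mul_one]

end Cfsg.Agent.Helper11
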