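import Mathlib
import Cfsg.Agent.Helper94.ULag
import Cfsg.Agent.Helper94.USub
import Cfsg.Agent.Helper94.UK
import Cfsg.Agent.Helper97.UNot
import Cfsg.Agent.Helper5.UnitSU

/-! CALL S5984 piece INVB (helper11). -/

set_option autoImplicit false
open Cfsg Cfsg.Geo Matrix
open Cfsg.Agent.Helper94
open scoped MatrixGroups

namespace Cfsg.Agent.Helper11

universe u

variable {F : Type u} [Field F] {ι : Type} [Fintype ι] [DecidableEq ι]
variable {σ : F ≃+* F} {f : (ι → F) → (ι → F) → F}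

/-- INVB -/
theorem bu_invol_pos (h : UF σ f) (h2 : (2 : F) ≠ 0) (s : Matrix ι ι F) (hs : s * s = 1)
    (hiso : ∀ u v, f (s *ᵥ u) (s *ᵥ v) = f u v) (hev : Even (Fintype.card ι))
    (hev' : Even (Module.finrank F (LinearMap.ker (Matrix.mulVecLin (s + 1)))))
    (hyp : ∀ U : Submodule F (ι → F), (∀ u ∈ U, u ≠ 0 → ∃ x ∈ U, f x u ≠ 0) →
      Even (Module.finrank F U) →
      ∃ P P' : Submodule F (ι → F), P ≤ U ∧ P' ≤ U ∧ (∀ x ∈ P, ∀ y ∈ P, f x y = 0) ∧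
        (∀ x ∈ P', ∀ y ∈ P', f x y = 0) ∧ (∀ x, x ∈ P → x ∈ P' → x = 0) ∧
        (∀ u ∈ U, ∃ a ∈ P, ∃ b ∈ P', u = a + b)) :
    ∃ W W' : Submodule F (ι → F), ULagPair f W W' ∧ (∀ a ∈ W, s *ᵥ a ∈ W) ∧
      (∀ b ∈ W', s *ᵥ b ∈ W') := by
  have hss : ∀ v : ι → F, s *ᵥ (s *ᵥ v) = v := by
    intro v
    rw [Matrix.mulVec_mulVec, hs, Matrix.one_mulVec]
  have hW : ∀ v : ι → F, v ∈ LinearMap.ker (Matrix.mulVecLin (s - 1)) ↔ s *ᵥ v = v := by
    intro v
    rw [LinearMap.mem_ker, Matrix.mulVecLin_apply, Matrix.sub_mulVec, Matrix.one_mulVec,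
      sub_eq_zero]
  have hW' : ∀ v : ι → F, v ∈ LinearMap.ker (Matrix.mulVecLin (s + 1)) ↔ s *ᵥ v = -v := by
    intro v
    rw [LinearMap.mem_ker, Matrix.mulVecLin_apply, Matrix.add_mulVec, Matrix.one_mulVec,
      add_eq_zero_iff_eq_neg]
  have hzero : ∀ c : F, c = -c → c = 0 := by
    intro c hc
    have h3 : (2 : F) * c = 0 := by linear_combination hc
    rcases mul_eq_zero.mp h3 with h4 | h4
    · exact absurd h4 h2
    · exact h4
  have horth : ∀ x y : ι → F, s *ᵥ x = x → s *ᵥ y = -y → f x y = 0 := by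
    intro x y hx hy
    apply hzero
    have := hiso x y
    rw [hx, hy, h.neg_right] at this
    exact this.symm
  have horth' : ∀ x y : ι → F, s *ᵥ x = x → s *ᵥ y = -y → f y x = 0 :=
    fun x y hx hy => h.swap_zero (horth x y hx hy)
  have hdec : ∀ v : ι → F, ∃ a, s *ᵥ a = a ∧ ∃ b, s *ᵥ b = -b ∧ v = a + b := by
    intro v
    refine ⟨(2 : F)⁻¹ • (v + s *ᵥ v), ?_, (2 : F)⁻¹ • (v - s *ᵥ v), ?_, ?_⟩
    · rw [Matrix.mulVec_smul, Matrix.mulVec_add, hss, add_comm]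
    · rw [Matrix.mulVec_smul, Matrix.mulVec_sub, hss, ← smul_neg, neg_sub]
    · rw [← smul_add]
      have : v + s *ᵥ v + (v - s *ᵥ v) = (2 : F) • v := by
        rw [two_smul]; abel
      rw [this, smul_smul, inv_mul_cancel₀ h2, one_smul]
  have hdisj : ∀ x : ι → F, s *ᵥ x = x → s *ᵥ x = -x → x = 0 := by
    intro x hx hx'
    rw [hx] at hx'
    funext i
    exact hzero (x i) (congrFun hx' i)
  have hnd1 : ∀ u ∈ LinearMap.ker (Matrix.mulVecLin (s - 1)), u ≠ 0 →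
      ∃ x ∈ LinearMap.ker (Matrix.mulVecLin (s - 1)), f x u ≠ 0 := by
    intro u hu hu0
    obtain ⟨x, hx⟩ := h.nondeg u hu0
    obtain ⟨a, ha, b, hb, rfl⟩ := hdec x
    refine ⟨a, (hW a).mpr ha, ?_⟩
    rw [h.add_left, horth' u b ((hW u).mp hu) hb, add_zero] at hx
    exact hx
  have hnd2 : ∀ u ∈ LinearMap.ker (Matrix.mulVecLin (s + 1)), u ≠ 0 →
      ∃ x ∈ LinearMap.ker (Matrix.mulVecLin (s + 1)), f x u ≠ 0 := by
    intro u hu hu0
    obtain ⟨x, hx⟩ := h.nondeg u hu0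
    obtain ⟨a, ha, b, hb, rfl⟩ := hdec x
    refine ⟨b, (hW' b).mpr hb, ?_⟩
    rw [h.add_left, horth a u ha ((hW' u).mp hu), zero_add] at hx
    exact hx
  have hdim : Module.finrank F (LinearMap.ker (Matrix.mulVecLin (s - 1)))
      + Module.finrank F (LinearMap.ker (Matrix.mulVecLin (s + 1))) = Fintype.card ι := by
    have hsup : LinearMap.ker (Matrix.mulVecLin (s - 1)) ⊔ LinearMap.ker (Matrix.mulVecLin (s + 1))
        = ⊤ := by
      rw [eq_top_iff]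
      intro v _
      obtain ⟨a, ha, b, hb, rfl⟩ := hdec v
      exact Submodule.add_mem _ (Submodule.mem_sup_left ((hW a).mpr ha))
        (Submodule.mem_sup_right ((hW' b).mpr hb))
    have hinf : LinearMap.ker (Matrix.mulVecLin (s - 1)) ⊓ LinearMap.ker (Matrix.mulVecLin (s + 1))
        = ⊥ := by
      rw [eq_bot_iff]
      intro x hx
      rw [Submodule.mem_inf] at hx
      rw [Submodule.mem_bot]
      exact hdisj x ((hW x).mp hx.1) ((hW' x).mp hx.2)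
    have h3 := Submodule.finrank_sup_add_finrank_inf_eq
      (LinearMap.ker (Matrix.mulVecLin (s - 1))) (LinearMap.ker (Matrix.mulVecLin (s + 1)))
    rw [hsup, hinf, finrank_top, finrank_bot, add_zero, Module.finrank_fintype_fun_eq_card] at h3
    exact h3.symm
  have hev1 : Even (Module.finrank F (LinearMap.ker (Matrix.mulVecLin (s - 1)))) := by
    have h4 : Even (Module.finrank F (LinearMap.ker (Matrix.mulVecLin (s - 1)))
      + Module.finrank F (LinearMap.ker (Matrix.mulVecLin (s + 1)))) := by rw [hdim]; exact hev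
    exact (Nat.even_add.mp h4).mpr hev'
  obtain ⟨P1, P1', hP1, hP1', hi1, hi1', hd1, hc1⟩ := hyp _ hnd1 hev1
  obtain ⟨P2, P2', hP2, hP2', hi2, hi2', hd2, hc2⟩ := hyp _ hnd2 hev'
  refine ⟨P1 ⊔ P2, P1' ⊔ P2', ⟨?_, ?_, ?_, ?_⟩, ?_, ?_⟩
  · intro x hx y hy
    obtain ⟨x1, hx1, x2, hx2, rfl⟩ := Submodule.mem_sup.mp hx
    obtain ⟨y1, hy1, y2, hy2, rfl⟩ := Submodule.mem_sup.mp hy
    rw [h.add_left, h.add_right, h.add_right, hi1 x1 hx1 y1 hy1, hi2 x2 hx2 y2 hy2,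
      horth x1 y2 ((hW x1).mp (hP1 hx1)) ((hW' y2).mp (hP2 hy2)),
      horth' y1 x2 ((hW y1).mp (hP1 hy1)) ((hW' x2).mp (hP2 hx2))]
    simp
  · intro x hx y hy
    obtain ⟨x1, hx1, x2, hx2, rfl⟩ := Submodule.mem_sup.mp hx
    obtain ⟨y1, hy1, y2, hy2, rfl⟩ := Submodule.mem_sup.mp hy
    rw [h.add_left, h.add_right, h.add_right, hi1' x1 hx1 y1 hy1, hi2' x2 hx2 y2 hy2,
      horth x1 y2 ((hW x1).mp (hP1' hx1)) ((hW' y2).mp (hP2' hy2)),
      horth' y1 x2 ((hW y1).mp (hP1' hy1)) ((hW' x2).mp (hP2' hx2))]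
    simp
  · intro x hx hx'
    obtain ⟨a1, ha1, a2, ha2, rfl⟩ := Submodule.mem_sup.mp hx
    obtain ⟨b1, hb1, b2, hb2, hab⟩ := Submodule.mem_sup.mp hx'
    have hd : a1 - b1 = b2 - a2 := by
      rw [sub_eq_sub_iff_add_eq_add, add_comm b2 b1, hab]
    have hz : a1 - b1 = 0 := by
      apply hdisj
      · rw [Matrix.mulVec_sub, (hW a1).mp (hP1 ha1), (hW b1).mp (hP1' hb1)]
      · rw [hd, Matrix.mulVec_sub, (hW' b2).mp (hP2' hb2), (hW' a2).mp (hP2 ha2)]; abel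
    have hab1 : a1 = b1 := sub_eq_zero.mp hz
    have hab2 : a2 = b2 := by
      have : b2 - a2 = 0 := by rw [← hd, hz]
      exact (sub_eq_zero.mp this).symm
    have ha10 : a1 = 0 := hd1 a1 ha1 (hab1 ▸ hb1)
    have ha20 : a2 = 0 := hd2 a2 ha2 (hab2 ▸ hb2)
    rw [ha10, ha20, add_zero]
  · intro v
    obtain ⟨a, ha, b, hb, rfl⟩ := hdec v
    obtain ⟨a1, ha1, a1', ha1', haa⟩ := hc1 a ((hW a).mpr ha)
    obtain ⟨b1, hb1, b1', hb1', hbb⟩ := hc2 b ((hW' b).mpr hb)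
    refine ⟨a1 + b1, Submodule.add_mem _ (Submodule.mem_sup_left ha1) (Submodule.mem_sup_right hb1),
      a1' + b1', Submodule.add_mem _ (Submodule.mem_sup_left ha1')
        (Submodule.mem_sup_right hb1'), ?_⟩
    rw [haa, hbb]; abel
  · intro a ha
    obtain ⟨a1, ha1, a2, ha2, rfl⟩ := Submodule.mem_sup.mp ha
    rw [Matrix.mulVec_add, (hW a1).mp (hP1 ha1), (hW' a2).mp (hP2 ha2)]
    exact Submodule.add_mem _ (Submodule.mem_sup_left ha1)
      (Submodule.mem_sup_right (Submodule.neg_mem _ ha2))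
  · intro a ha
    obtain ⟨a1, ha1, a2, ha2, rfl⟩ := Submodule.mem_sup.mp ha
    rw [Matrix.mulVec_add, (hW a1).mp (hP1' ha1), (hW' a2).mp (hP2' ha2)]
    exact Submodule.add_mem _ (Submodule.mem_sup_left ha1)
      (Submodule.mem_sup_right (Submodule.neg_mem _ ha2))

end Cfsg.Agent.Helper11
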