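import Mathlib
import Cfsg.Prelude.Def_Characters
import Cfsg.Prelude.Def_Solvable
import Cfsg.Agent.Helper3.IndFun
import Cfsg.Agent.Helper3.Induced
import Cfsg.Agent.Helper3.CharBasic
import Cfsg.Agent.Helper79.Basic
import Cfsg.Agent.Helper79.Quotient
import Cfsg.Agent.Helper79.Sep
import Cfsg.Agent.Helper80.CharIrr
import Cfsg.Agent.Helper71.Frobenius
import Cfsg.Agent.Helper71.FrobCount

/-!
# Frobenius' theorem (helper11)

The Frobenius kernel of a Frobenius complement is a normal subgroup complementing it.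
Uses the team character library (helper3 / helper79 / helper80 / helper71).
-/

set_option autoImplicit false

namespace Cfsg.Agent.Helper11

open Cfsg
open scoped ComplexConjugate

section Inner

variable {G : Type*} [Group G] [Fintype G]

theorem classInner_add_left (f₁ f₂ ψ : G → ℂ) :
    classInner (fun g => f₁ g + f₂ g) ψ = classInner f₁ ψ + classInner f₂ ψ := by
  unfold classInner
  rw [← mul_add, ← Finset.sum_add_distrib]
  congr 1
  apply Finset.sum_congr rfl
  intro g _
  ring

theorem classInner_sub_left (f₁ f₂ ψ : G → ℂ) :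
    classInner (fun g => f₁ g - f₂ g) ψ = classInner f₁ ψ - classInner f₂ ψ := by
  unfold classInner
  rw [← mul_sub, ← Finset.sum_sub_distrib]
  congr 1
  apply Finset.sum_congr rfl
  intro g _
  ring

theorem classInner_const_mul_left (c : ℂ) (f ψ : G → ℂ) :
    classInner (fun g => c * f g) ψ = c * classInner f ψ := by
  unfold classInner
  rw [mul_left_comm]
  congr 1
  rw [Finset.mul_sum]
  apply Finset.sum_congr rfl
  intro g _
  show c * f g * conj (ψ g) = c * (f g * conj (ψ g))
  ring

theorem classInner_conj_symm (f ψ : G → ℂ) : classInner ψ f = conj (classInner f ψ) := by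
  unfold classInner
  rw [map_mul, map_sum, map_inv₀, map_natCast]
  congr 1
  apply Finset.sum_congr rfl
  intro g _
  rw [map_mul, Complex.conj_conj, mul_comm]

theorem classInner_one_one : classInner (fun _ : G => (1 : ℂ)) (fun _ => 1) = 1 := by
  unfold classInner
  simp only [map_one, mul_one, Finset.sum_const, Finset.card_univ, nsmul_eq_mul]
  rw [Nat.card_eq_fintype_card]
  have : (Fintype.card G : ℂ) ≠ 0 := by exact_mod_cast Fintype.card_ne_zero
  field_simp

theorem classInner_irr_self {θ : G → ℂ} (hθ : IsIrrCharacter G θ) : classInner θ θ = 1 := by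
  unfold classInner
  have h := Cfsg.Agent.Helper80.irr_orthogonality_conj (⟨θ, hθ⟩ : IrrCharacter G) ⟨θ, hθ⟩
  rw [if_pos rfl] at h
  rw [h, Nat.card_eq_fintype_card]
  have : (Fintype.card G : ℂ) ≠ 0 := by exact_mod_cast Fintype.card_ne_zero
  field_simp

/-- A class function with integer multiplicities, norm one and positive degree is an irreducible
character. -/
theorem isIrrCharacter_of_norm_one (ψ : G → ℂ) (hψ : IsClassFunction G ψ)
    (hint : ∀ χ : IrrCharacter G, ∃ z : ℤ, classInner ψ χ = (z : ℂ))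
    (hnorm : classInner ψ ψ = 1) (hpos : ∃ n : ℕ, 0 < n ∧ ψ 1 = (n : ℂ)) :
    IsIrrCharacter G ψ := by
  classical
  have : Fintype (IrrCharacter G) := Fintype.ofFinite _
  choose z hz using hint
  have hexp := Cfsg.Agent.Helper3.classFunction_eq_sum ψ hψ
  have hg : ∀ g, ψ g = ∑ χ : IrrCharacter G, (z χ : ℂ) * (χ : G → ℂ) g := by
    intro g
    have h1 := congrFun hexp g
    rw [Finset.sum_apply] at h1
    rw [h1]
    apply Finset.sum_congr rfl
    intro χ _
    rw [Pi.smul_apply, smul_eq_mul, hz χ]
  have hsumC : ∑ χ : IrrCharacter G, (z χ : ℂ) * (z χ : ℂ) = 1 := by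
    rw [← hnorm]
    have h2 : ∀ χ : IrrCharacter G, classInner (χ : G → ℂ) ψ = (z χ : ℂ) := by
      intro χ
      rw [classInner_conj_symm ψ (χ : G → ℂ), hz χ, map_intCast]
    calc ∑ χ : IrrCharacter G, (z χ : ℂ) * (z χ : ℂ)
        = ∑ χ : IrrCharacter G, (z χ : ℂ) * classInner (χ : G → ℂ) ψ := by
          apply Finset.sum_congr rfl
          intro χ _
          rw [h2 χ]
      _ = classInner ψ ψ := by
          unfold classInner
          simp only [Finset.mul_sum]
          rw [Finset.sum_comm]
          apply Finset.sum_congr rfl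
          intro g _
          have h3 : ψ g * conj (ψ g) =
              (∑ χ : IrrCharacter G, (z χ : ℂ) * (χ : G → ℂ) g) * conj (ψ g) := by
            rw [← hg g]
          rw [h3, Finset.sum_mul, Finset.mul_sum]
          apply Finset.sum_congr rfl
          intro χ _
          ring
  have hsum : ∑ χ : IrrCharacter G, z χ * z χ = 1 := by
    exact_mod_cast hsumC
  obtain ⟨χ₀, hχ₀⟩ : ∃ χ₀, z χ₀ ≠ 0 := by
    by_contra h
    push Not at h
    simp [h] at hsum
  have hsplit := Finset.add_sum_erase Finset.univ (fun χ => z χ * z χ) (Finset.mem_univ χ₀)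
  rw [hsum] at hsplit
  have hnn : ∀ χ ∈ Finset.univ.erase χ₀, 0 ≤ z χ * z χ := fun χ _ => mul_self_nonneg _
  have hrest_nn : 0 ≤ ∑ χ ∈ Finset.univ.erase χ₀, z χ * z χ := Finset.sum_nonneg hnn
  have h0pos : 1 ≤ z χ₀ * z χ₀ := by
    have : 0 < z χ₀ * z χ₀ := mul_self_pos.mpr hχ₀
    omega
  have hrest : ∑ χ ∈ Finset.univ.erase χ₀, z χ * z χ = 0 := by
    have hh : z χ₀ * z χ₀ + ∑ χ ∈ Finset.univ.erase χ₀, z χ * z χ = 1 := hsplit
    omega
  have hz0 : z χ₀ * z χ₀ = 1 := by
    have hh : z χ₀ * z χ₀ + ∑ χ ∈ Finset.univ.erase χ₀, z χ * z χ = 1 := hsplit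
    omega
  have hothers : ∀ χ, χ ≠ χ₀ → z χ = 0 := by
    intro χ hχ
    have := (Finset.sum_eq_zero_iff_of_nonneg hnn).mp hrest χ
      (Finset.mem_erase.mpr ⟨hχ, Finset.mem_univ χ⟩)
    exact mul_self_eq_zero.mp this
  have hψeq : ∀ g, ψ g = (z χ₀ : ℂ) * (χ₀ : G → ℂ) g := by
    intro g
    rw [hg g]
    apply Finset.sum_eq_single χ₀
    · intro χ _ hχ
      rw [hothers χ hχ]
      simp
    · intro h
      exact absurd (Finset.mem_univ χ₀) h
  obtain ⟨n, hn0, hn⟩ := hpos
  obtain ⟨m, hm0, hm⟩ := Cfsg.Agent.Helper3.irr_apply_one_eq_nat χ₀.2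
  rcases mul_self_eq_one_iff.mp hz0 with h1 | h1
  · have : ψ = (χ₀ : G → ℂ) := by
      funext g
      rw [hψeq g, h1]
      simp
    rw [this]
    exact χ₀.2
  · exfalso
    have h4 := hψeq 1
    rw [hn, hm, h1] at h4
    have h5 : ((n + m : ℕ) : ℂ) = 0 := by
      push_cast
      rw [h4]
      push_cast
      ring
    have h6 : n + m = 0 := by exact_mod_cast h5
    omega

end Inner

section Frob

variable {G : Type*} [Group G] [Fintype G]

/-- Induction from a Frobenius complement: values on the complement, for class functions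
vanishing at the identity. -/
theorem indFun_apply_of_mem_frob (H : Subgroup G) [Fintype H]
    (hF : ∀ x : G, x ∉ H → ∀ h : G, h ∈ H → x⁻¹ * h * x ∈ H → h = 1)
    (φ : H → ℂ) (hφ : IsClassFunction H φ) (hφ1 : φ 1 = 0) (h : H) :
    indFun H φ (h : G) = φ h := by
  have hHne : (Nat.card H : ℂ) ≠ 0 := by exact_mod_cast Nat.card_pos.ne'
  by_cases h1 : h = 1
  · subst h1
    unfold indFun
    have : ∀ x : G, extendByZero H φ (x⁻¹ * ((1 : H) : G) * x) = 0 := by
      intro x
      have e : x⁻¹ * ((1 : H) : G) * x = ((1 : H) : G) := by simp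
      rw [e, Cfsg.Agent.Helper3.extendByZero_coe, hφ1]
    simp only [this, Finset.sum_const_zero, mul_zero]
    exact hφ1.symm
  · have h1' : (h : G) ≠ 1 := fun hh => h1 (Subtype.ext hh)
    have key : ∀ x : G, extendByZero H φ (x⁻¹ * (h : G) * x)
        = extendByZero H (fun _ => φ h) x := by
      intro x
      by_cases hx : x ∈ H
      · rw [Cfsg.Agent.Helper3.extendByZero_of_mem _ _ hx]
        have hmem : x⁻¹ * (h : G) * x ∈ H := H.mul_mem (H.mul_mem (H.inv_mem hx) h.2) hx
        rw [Cfsg.Agent.Helper3.extendByZero_of_mem _ _ hmem]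
        have := hφ h (⟨x, hx⟩⁻¹ : H)
        rw [← this]
        congr 1
        apply Subtype.ext
        simp
      · rw [Cfsg.Agent.Helper3.extendByZero_of_not_mem _ _ hx]
        have hnm : x⁻¹ * (h : G) * x ∉ H := fun hm => h1' (hF x hx (h : G) h.2 hm)
        rw [Cfsg.Agent.Helper3.extendByZero_of_not_mem _ _ hnm]
    unfold indFun
    simp only [key]
    rw [Cfsg.Agent.Helper3.sum_extendByZero, Finset.sum_const, Finset.card_univ, nsmul_eq_mul,
      ← Nat.card_eq_fintype_card]
    field_simp

/-- Induction from a subgroup vanishes on elements lying in no conjugate of it. -/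
theorem indFun_apply_of_forall_not_mem (H : Subgroup G) (φ : H → ℂ) (g : G)
    (hg : ∀ x : G, x⁻¹ * g * x ∉ H) : indFun H φ g = 0 := by
  unfold indFun
  have : ∀ x : G, extendByZero H φ (x⁻¹ * g * x) = 0 := fun x =>
    Cfsg.Agent.Helper3.extendByZero_of_not_mem _ _ (hg x)
  simp only [this, Finset.sum_const_zero, mul_zero]

/-- The canonical extension of an irreducible character `θ` of a Frobenius complement `H` to the
whole group: `(θ - θ(1) 1_H)^G + θ(1) 1_G`. It restricts to `θ` on `H`. -/
theorem frobExt_apply_of_mem (H : Subgroup G) [Fintype H]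
    (hF : ∀ x : G, x ∉ H → ∀ h : G, h ∈ H → x⁻¹ * h * x ∈ H → h = 1)
    (θ : H → ℂ) (hθ : IsClassFunction H θ) (h : H) :
    indFun H (fun k => θ k - θ 1) (h : G) + θ 1 = θ h := by
  rw [indFun_apply_of_mem_frob H hF (fun k => θ k - θ 1) (fun a b => by
    show θ (b * a * b⁻¹) - θ 1 = θ a - θ 1
    rw [hθ a b]) (by simp) h]
  ring

/-- The canonical extension of an irreducible character of a Frobenius complement is an
irreducible character of the whole group. -/
theorem frobExt_isIrrCharacter (H : Subgroup G) [Fintype H]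
    (hF : ∀ x : G, x ∉ H → ∀ h : G, h ∈ H → x⁻¹ * h * x ∈ H → h = 1)
    (θ : H → ℂ) (hθ : IsIrrCharacter H θ) :
    IsIrrCharacter G (fun g => indFun H (fun k => θ k - θ 1) g + θ 1) := by
  have hθc : IsCharacter H θ := Cfsg.Agent.Helper80.isCharacter_of_irr hθ
  have hθclass : IsClassFunction H θ := Cfsg.Agent.Helper79.isCharacter_isClassFunction hθc
  obtain ⟨d, hd0, hd⟩ := Cfsg.Agent.Helper3.irr_apply_one_eq_nat hθ
  set φ : H → ℂ := fun k => θ k - θ 1 with hφdef
  set ψ : G → ℂ := fun g => indFun H φ g + θ 1 with hψdef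
  have hψH : ∀ h : H, ψ (h : G) = θ h := fun h => frobExt_apply_of_mem H hF θ hθclass h
  have hindclass : IsClassFunction G (indFun H φ) :=
    Cfsg.Agent.Helper3.indFun_isClassFunction H φ
  have hψclass : IsClassFunction G ψ := by
    intro g x
    show indFun H φ (x * g * x⁻¹) + θ 1 = indFun H φ g + θ 1
    rw [hindclass g x]
  have hone : IsCharacter G (fun _ => (1 : ℂ)) := Cfsg.Agent.Helper79.isCharacter_one
  have honeH : IsCharacter H (fun _ => (1 : ℂ)) := Cfsg.Agent.Helper79.isCharacter_one
  -- decomposition of inner products with `ψ` in the first slot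
  have hdec : ∀ f : G → ℂ, IsClassFunction G f →
      classInner ψ f = classInner θ (fun h : H => f h)
        - θ 1 * classInner (fun _ : H => (1 : ℂ)) (fun h : H => f h)
        + θ 1 * classInner (fun _ : G => (1 : ℂ)) f := by
    intro f hf
    have e1 : ψ = fun g => indFun H φ g + θ 1 * (fun _ : G => (1 : ℂ)) g := by
      funext g
      simp [hψdef]
    rw [e1, classInner_add_left, classInner_const_mul_left,
      Cfsg.Agent.Helper3.frobenius_reciprocity H φ f hf]
    have e2 : φ = fun k => θ k - θ 1 * (fun _ : H => (1 : ℂ)) k := by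
      funext k
      simp [hφdef]
    rw [e2, classInner_sub_left, classInner_const_mul_left]
  apply isIrrCharacter_of_norm_one ψ hψclass
  · intro χ
    have hχc : IsCharacter G (χ : G → ℂ) := Cfsg.Agent.Helper79.irr_isCharacter χ
    have hχclass := Cfsg.Agent.Helper79.isCharacter_isClassFunction hχc
    have hχH : IsCharacter H (fun h : H => (χ : G → ℂ) h) :=
      Cfsg.Agent.Helper79.isCharacter_restrict hχc H
    obtain ⟨n₁, hn₁⟩ := Cfsg.Agent.Helper3.classInner_isCharacter_nat hθc hχH
    obtain ⟨n₂, hn₂⟩ := Cfsg.Agent.Helper3.classInner_isCharacter_nat honeH hχH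
    obtain ⟨n₃, hn₃⟩ := Cfsg.Agent.Helper3.classInner_isCharacter_nat hone hχc
    refine ⟨(n₁ : ℤ) - d * n₂ + d * n₃, ?_⟩
    rw [hdec _ hχclass, hn₁, hn₂, hn₃, hd]
    push_cast
    ring
  · rw [hdec ψ hψclass]
    have e3 : (fun h : H => ψ (h : G)) = θ := funext hψH
    rw [e3]
    have e4 : classInner (fun _ : G => (1 : ℂ)) ψ = classInner (fun _ : H => (1 : ℂ)) θ := by
      rw [classInner_conj_symm ψ (fun _ : G => (1 : ℂ)),
        classInner_conj_symm θ (fun _ : H => (1 : ℂ))]
      congr 1
      rw [hdec _ (fun _ _ => rfl), classInner_one_one, classInner_one_one]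
      ring
    rw [e4, classInner_irr_self hθ]
    ring
  · refine ⟨d, hd0, ?_⟩
    have := hψH 1
    rw [hd] at this
    exact this

end Frob

/-- **Frobenius' theorem**: the Frobenius kernel of a Frobenius complement `H` of a finite group
is a normal subgroup which is a complement of `H`. -/
theorem frobenius_kernel_subgroup {G : Type*} [Group G] [Finite G] (H : Subgroup G)
    (hH : Cfsg.IsFrobeniusComplement H) :
    ∃ N : Subgroup G, (N : Set G) = Cfsg.frobeniusKernel H ∧ N.Normal ∧
      Subgroup.IsComplement' N H := by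
  classical
  have : Fintype G := Fintype.ofFinite G
  have : Fintype H := Fintype.ofFinite H
  obtain ⟨-, -, hF⟩ := (Cfsg.Agent.Helper71.isFrobeniusComplement_iff H).mp hH
  have hF' : ∀ x : G, x ∉ H → ∀ h : G, h ∈ H → x⁻¹ * h * x ∈ H → h = 1 := hF
  have hψirr : ∀ θ : IrrCharacter H,
      IsIrrCharacter G (fun g => indFun H (fun k => θ.1 k - θ.1 1) g + θ.1 1) :=
    fun θ => frobExt_isIrrCharacter H hF' θ.1 θ.2
  have hψchar : ∀ θ : IrrCharacter H,
      IsCharacter G (fun g => indFun H (fun k => θ.1 k - θ.1 1) g + θ.1 1) :=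
    fun θ => Cfsg.Agent.Helper80.isCharacter_of_irr (hψirr θ)
  have hψH : ∀ (θ : IrrCharacter H) (h : H),
      indFun H (fun k => θ.1 k - θ.1 1) (h : G) + θ.1 1 = θ.1 h := fun θ h =>
    frobExt_apply_of_mem H hF' θ.1
      (Cfsg.Agent.Helper79.isCharacter_isClassFunction (Cfsg.Agent.Helper79.irr_isCharacter θ)) h
  set N : Subgroup G := ⨅ θ : IrrCharacter H, Cfsg.Agent.Helper79.charKer (hψchar θ) with hNdef
  have hNmem : ∀ g : G, g ∈ N ↔ ∀ θ : IrrCharacter H,
      indFun H (fun k => θ.1 k - θ.1 1) g + θ.1 1 = θ.1 1 := by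
    intro g
    rw [hNdef, Subgroup.mem_iInf]
    refine forall_congr' fun θ => ?_
    rw [Cfsg.Agent.Helper79.mem_charKer]
    have := hψH θ 1
    rw [Subgroup.coe_one] at this
    rw [this]
  have hNset : (N : Set G) = Cfsg.frobeniusKernel H := by
    ext g
    rw [SetLike.mem_coe]
    constructor
    · intro hg
      by_cases h1 : g = 1
      · exact Or.inl h1
      · right
        intro x hx
        rw [Cfsg.Agent.Helper71.mem_conj_smul] at hx
        apply h1
        have hall : ∀ θ : IrrCharacter H,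
            (θ : H → ℂ) ⟨x⁻¹ * g * x, hx⟩ = (θ : H → ℂ) 1 := by
          intro θ
          have hgN := (hNmem g).mp hg θ
          have e1 := Cfsg.Agent.Helper79.isCharacter_conj_eq (hψchar θ) g x⁻¹
          rw [inv_inv] at e1
          have e2 := hψH θ ⟨x⁻¹ * g * x, hx⟩
          rw [← e2]
          exact e1.trans hgN
        have hconj : IsConj (⟨x⁻¹ * g * x, hx⟩ : H) 1 :=
          Cfsg.Agent.Helper79.isConj_iff_forall_irr_eq.mpr hall
        have h2 : (⟨x⁻¹ * g * x, hx⟩ : H) = 1 := isConj_one_left.mp hconj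
        have h3 : x⁻¹ * g * x = 1 := congrArg Subtype.val h2
        have h4 : g = x * (x⁻¹ * g * x) * x⁻¹ := by group
        rw [h4, h3]
        group
    · rintro (rfl | hg)
      · exact N.one_mem
      · rw [hNmem]
        intro θ
        rw [indFun_apply_of_forall_not_mem H _ g (fun x hx =>
          hg x ((Cfsg.Agent.Helper71.mem_conj_smul H x g).mpr hx)), zero_add]
  have hNnormal : N.Normal :=
    Subgroup.normal_iInf_normal (fun θ => Cfsg.Agent.Helper79.charKer_normal (hψchar θ))
  refine ⟨N, hNset, hNnormal, ?_⟩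
  apply Subgroup.isComplement'_of_card_mul_and_disjoint
  · have hcard := Cfsg.Agent.Helper71.card_kernel_set (⊥ : Subgroup G) H bot_le
      (fun g hg x hx hgx => by rw [Subgroup.mem_bot]; exact hF g hg x hx hgx)
    rw [Subgroup.card_bot, one_mul] at hcard
    have hN : Nat.card N = Nat.card {x : G // x ∈ (⊥ : Subgroup G) ∨ ∀ g : G, g⁻¹ * x * g ∉ H} := by
      apply Nat.card_congr
      apply Equiv.subtypeEquivRight
      intro x
      have : x ∈ N ↔ x ∈ Cfsg.frobeniusKernel H := by rw [← hNset]; rfl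
      rw [this]
      unfold Cfsg.frobeniusKernel
      rw [Set.mem_ofPred_eq, Subgroup.mem_bot]
      refine or_congr Iff.rfl (forall_congr' fun g => ?_)
      rw [Cfsg.Agent.Helper71.mem_conj_smul]
    rw [hN, hcard]
    exact H.index_mul_card
  · rw [Subgroup.disjoint_def]
    intro x hxN hxH
    have hxK : x ∈ Cfsg.frobeniusKernel H := by rw [← hNset]; exact hxN
    rcases hxK with h | h
    · exact h
    · exfalso
      apply h 1
      rw [Cfsg.Agent.Helper71.mem_conj_smul]
      simpa using hxH

end Cfsg.Agent.Helper11
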