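import Mathlib
import Cfsg.Agent.Helper11.FrobThm

/-!
# Actions of Frobenius groups on abelian groups (helper11)
-/

set_option autoImplicit false

namespace Cfsg.Agent.Helper11

open Cfsg

/-- A group `Φ = N H` of Frobenius type (kernel `N`, complement `H`) acting on a finite abelian
group `A` of order prime to `|N|`: if neither `N` nor `H` has a nontrivial fixed point on `A`,
then `A` is trivial. -/
theorem frobenius_action_trivial {Φ A : Type*} [Group Φ] [Finite Φ] [Group A] [Finite A]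
    (hA : ∀ a b : A, a * b = b * a) (ρ : Φ →* MulAut A) (N H : Subgroup Φ) [hN : N.Normal]
    (hNH : ∀ x, x ∈ N → x ∈ H → x = 1)
    (hF : ∀ x : Φ, x ∉ H → ∀ h : Φ, h ∈ H → x⁻¹ * h * x ∈ H → h = 1)
    (hcover : ∀ g : Φ, g ∉ N → ∃ x ∈ N, ∃ h ∈ H, g = x * h * x⁻¹)
    (hcop : (Nat.card A).Coprime (Nat.card N))
    (hCN : ∀ b : A, (∀ n ∈ N, ρ n b = b) → b = 1)
    (hCH : ∀ b : A, (∀ h ∈ H, ρ h b = b) → b = 1) (a : A) : a = 1 := by
  classical
  let : CommGroup A := { ‹Group A› with mul_comm := hA }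
  have : Fintype Φ := Fintype.ofFinite Φ
  have hfix : ∀ (X : Subgroup Φ) (b : A) (y : Φ), y ∈ X →
      ρ y (∏ h : X, ρ (h : Φ) b) = ∏ h : X, ρ (h : Φ) b := by
    intro X b y hy
    rw [map_prod]
    apply Fintype.prod_equiv (Equiv.mulLeft (⟨y, hy⟩ : X))
    intro h
    simp [map_mul, MulAut.mul_apply]
  have hTH : ∀ b : A, ∏ h : H, ρ (h : Φ) b = 1 := fun b => hCH _ (fun h hh => hfix H b h hh)
  have hTN : ∏ n : N, ρ (n : Φ) a = 1 := hCN _ (fun n hn => hfix N a n hn)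
  have hTΦ : ∏ g : Φ, ρ g a = 1 := by
    apply hCN
    intro n _
    rw [map_prod]
    apply Fintype.prod_equiv (Equiv.mulLeft n)
    intro g
    simp [map_mul, MulAut.mul_apply]
  have hH1 : ∀ b : A, ∏ h ∈ (Finset.univ.erase (1 : H)), ρ (h : Φ) b = b⁻¹ := by
    intro b
    have h1 := Finset.mul_prod_erase Finset.univ (fun h : H => ρ (h : Φ) b) (Finset.mem_univ 1)
    rw [hTH b] at h1
    simp only [Subgroup.coe_one, map_one, MulAut.one_apply] at h1
    exact eq_inv_of_mul_eq_one_right h1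
  have hsplit : ∏ g : Φ, ρ g a = (∏ g ∈ Finset.univ.filter (fun g => g ∈ N), ρ g a) *
      ∏ g ∈ Finset.univ.filter (fun g => ¬ g ∈ N), ρ g a :=
    (Finset.prod_filter_mul_prod_filter_not _ _ _).symm
  have hN' : ∏ g ∈ Finset.univ.filter (fun g => g ∈ N), ρ g a = ∏ n : N, ρ (n : Φ) a :=
    Finset.prod_subtype (Finset.univ.filter (fun g => g ∈ N)) (by simp) (fun g => ρ g a)
  have hcompl : ∏ g ∈ Finset.univ.filter (fun g => ¬ g ∈ N), ρ g a =
      ∏ p ∈ (Finset.univ : Finset N) ×ˢ (Finset.univ.erase (1 : H)),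
        ρ ((p.1 : Φ) * (p.2 : Φ) * (p.1 : Φ)⁻¹) a := by
    symm
    apply Finset.prod_nbij (fun p : N × H => (p.1 : Φ) * (p.2 : Φ) * (p.1 : Φ)⁻¹)
    · rintro ⟨x, h⟩ hp
      simp only [Finset.mem_product, Finset.mem_univ, true_and, Finset.mem_erase, ne_eq,
        and_true] at hp
      simp only [Finset.mem_filter, Finset.mem_univ, true_and]
      intro hmem
      have h2 : (h : Φ) ∈ N := by
        have h3 := hN.conj_mem _ hmem (x : Φ)⁻¹
        have e : (x : Φ)⁻¹ * ((x : Φ) * (h : Φ) * (x : Φ)⁻¹) * (x : Φ)⁻¹⁻¹ = (h : Φ) := by group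
        rw [e] at h3
        exact h3
      exact hp (Subtype.ext (hNH _ h2 h.2))
    · rintro ⟨x, h⟩ hp ⟨x', h'⟩ hp' heq
      simp only [Finset.coe_product, Finset.coe_univ, Finset.coe_erase, Set.mem_prod,
        Set.mem_univ, Set.mem_sdiff, Set.mem_singleton_iff, true_and] at hp hp'
      simp only at heq
      have hy : (x' : Φ)⁻¹ * (x : Φ) ∈ H := by
        by_contra hnot
        have h4 := hF ((x' : Φ)⁻¹ * (x : Φ)) hnot (h' : Φ) h'.2 (by
          have e : ((x' : Φ)⁻¹ * (x : Φ))⁻¹ * (h' : Φ) * ((x' : Φ)⁻¹ * (x : Φ)) =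
              (x : Φ)⁻¹ * ((x' : Φ) * (h' : Φ) * (x' : Φ)⁻¹) * (x : Φ) := by group
          rw [e, ← heq]
          have e2 : (x : Φ)⁻¹ * ((x : Φ) * (h : Φ) * (x : Φ)⁻¹) * (x : Φ) = (h : Φ) := by group
          rw [e2]
          exact h.2)
        exact hp' (Subtype.ext h4)
      have hy1 : (x' : Φ)⁻¹ * (x : Φ) = 1 :=
        hNH _ (N.mul_mem (N.inv_mem x'.2) x.2) hy
      have hxx : (x : Φ) = (x' : Φ) := by
        have := eq_of_inv_mul_eq_one hy1
        exact this.symm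
      have hxx' : x = x' := Subtype.ext hxx
      subst hxx'
      have hhh : (h : Φ) = (h' : Φ) := by
        have e3 : (h : Φ) = (x : Φ)⁻¹ * ((x : Φ) * (h : Φ) * (x : Φ)⁻¹) * (x : Φ) := by group
        rw [e3, heq]
        group
      rw [Subtype.ext hhh]
    · intro g hg
      simp only [Finset.coe_filter, Finset.mem_univ, true_and, Set.mem_ofPred_eq] at hg
      obtain ⟨x, hx, h, hh, rfl⟩ := hcover g hg
      refine ⟨(⟨x, hx⟩, ⟨h, hh⟩), ?_, rfl⟩
      simp only [Finset.coe_product, Finset.coe_univ, Finset.coe_erase, Set.mem_prod,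
        Set.mem_univ, Set.mem_sdiff, Set.mem_singleton_iff, true_and]
      intro h1
      apply hg
      have h1' : h = 1 := congrArg Subtype.val h1
      rw [h1']
      simp
    · intro p _
      rfl
  have hprod : ∏ p ∈ (Finset.univ : Finset N) ×ˢ (Finset.univ.erase (1 : H)),
      ρ ((p.1 : Φ) * (p.2 : Φ) * (p.1 : Φ)⁻¹) a = ∏ _x : N, a⁻¹ := by
    rw [Finset.prod_product]
    apply Finset.prod_congr rfl
    intro x _
    have e : ∀ h : H, ρ ((x : Φ) * (h : Φ) * (x : Φ)⁻¹) a =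
        ρ (x : Φ) (ρ (h : Φ) (ρ (x : Φ)⁻¹ a)) := by
      intro h
      simp [map_mul, MulAut.mul_apply]
    simp only [e]
    rw [← map_prod, hH1, map_inv]
    simp
  rw [hsplit, hN', hTN, hcompl, hprod, one_mul, Finset.prod_const, Finset.card_univ] at hTΦ
  have h1 : a ^ Nat.card N = 1 := by
    rw [Nat.card_eq_fintype_card]
    simpa using hTΦ
  have h2 : a ^ Nat.card A = 1 := pow_card_eq_one'
  have h3 : orderOf a ∣ Nat.gcd (Nat.card A) (Nat.card N) :=
    Nat.dvd_gcd (orderOf_dvd_of_pow_eq_one h2) (orderOf_dvd_of_pow_eq_one h1)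
  rw [Nat.Coprime.gcd_eq_one hcop] at h3
  exact orderOf_eq_one_iff.mp (Nat.dvd_one.mp h3)

end Cfsg.Agent.Helper11
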