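/- Sub-CALL S90T2 (helper98), piece EMBAPP: the block embedding applied to a vector. -/
import Mathlib
import Cfsg.Prelude.Def_GeometricClasses
import Cfsg.Prelude.Def_Classical
import Cfsg.Agent.Helper35.S88Defs
import Cfsg.Agent.Helper98.ELPDefs
import Cfsg.Agent.Helper98.S90T2Defs

set_option autoImplicit false

namespace Cfsg.Agent.Helper11.S90T2

open Module Matrix Cfsg Cfsg.Geo Cfsg.Agent.Helper35.S88 Cfsg.Agent.Helper98.ELP
  Cfsg.Agent.Helper98.S90T2
open scoped MatrixGroups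

variable {n : Type} [Fintype n] [DecidableEq n] {F : Type*} [Field F]

/-- EMBAPP [S]: `Matrix.fromBlocks_mulVec`. -/
theorem embM_mulVec_inl (g : Matrix (n ⊕ n) (n ⊕ n) F) (v : (n ⊕ n) ⊕ Fin 2 → F) (i : n ⊕ n) :
    (embM g *ᵥ v) (.inl i) = (g *ᵥ (fun j => v (.inl j))) i := by
  have hv : v = Sum.elim (fun j => v (.inl j)) (fun j => v (.inr j)) := by
    funext x; cases x <;> rfl
  conv_lhs => rw [hv]
  rw [embM, Matrix.fromBlocks_mulVec]
  simp

theorem embM_mulVec_inr (g : Matrix (n ⊕ n) (n ⊕ n) F) (v : (n ⊕ n) ⊕ Fin 2 → F) (k : Fin 2) :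
    (embM g *ᵥ v) (.inr k) = v (.inr k) := by
  have hv : v = Sum.elim (fun j => v (.inl j)) (fun j => v (.inr j)) := by
    funext x; cases x <;> rfl
  conv_lhs => rw [hv]
  rw [embM, Matrix.fromBlocks_mulVec]
  simp [Matrix.one_mulVec]

end Cfsg.Agent.Helper11.S90T2
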