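/- Sub-CALL S90T2 (helper98), piece BADKER: fixed singular vectors of the bad element lie in subUm. -/
import Mathlib
import Cfsg.Prelude.Def_GeometricClasses
import Cfsg.Prelude.Def_Classical
import Cfsg.Agent.Helper35.S88Defs
import Cfsg.Agent.Helper98.ELPDefs
import Cfsg.Agent.Helper98.S90T2Defs
import Cfsg.Agent.Helper47.ELPAPP
import Cfsg.Agent.Helper47.ELPT0KER
import Cfsg.Agent.Helper11.S90T2EMBAPP

set_option autoImplicit false

namespace Cfsg.Agent.Helper11.S90T2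

open Module Matrix Cfsg Cfsg.Geo Cfsg.Agent.Helper35.S88 Cfsg.Agent.Helper98.ELP
  Cfsg.Agent.Helper98.S90T2
open scoped MatrixGroups

variable {n : Type} [Fintype n] [DecidableEq n] {F : Type*} [Field F]

/-- BADKER [M]: a fixed singular vector of `embM (siegM (t0 k F))`, `k` even, lies in `subUm`. -/
theorem bad_ker (k : ℕ) (hk : Even k) (a b : F)
    (hab : ∀ x y : F, x ^ 2 + a * x * y + b * y ^ 2 = 0 → x = 0 ∧ y = 0)
    (v : (Fin k ⊕ Fin k) ⊕ Fin 2 → F) (hfix : embM (siegM (t0 k F)) *ᵥ v = v)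
    (hq : qm (Fin k) F a b v = 0) : v ∈ subUm (Fin k) F := by
  have h1 : (t0 k F - (t0 k F)ᵀ) *ᵥ (fun j => v (.inl (.inr j))) = 0 := by
    funext i
    have h2 := congrFun hfix (.inl (.inl i))
    rw [Cfsg.Agent.Helper11.S90T2.embM_mulVec_inl, Cfsg.Agent.Helper47.ELP.siegM_mulVec_inl] at h2
    exact add_left_cancel (h2.trans (add_zero _).symm)
  have h3 : ∀ j : Fin k, v (.inl (.inr j)) = 0 := by
    intro j
    exact Cfsg.Agent.Helper47.ELP.t0_ker k _ h1 j (by
      obtain ⟨c, hc⟩ := hk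
      have := j.2
      omega)
  have h4 : v (.inr 0) ^ 2 + a * v (.inr 0) * v (.inr 1) + b * v (.inr 1) ^ 2 = 0 := by
    unfold qm at hq
    simpa [h3] using hq
  obtain ⟨h5, h6⟩ := hab _ _ h4
  refine ⟨h3, fun kk => ?_⟩
  fin_cases kk
  · exact h5
  · exact h6

end Cfsg.Agent.Helper11.S90T2
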