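/- Sub-CALL S90T2 (helper98), piece BADSING: the bad element moves vectors inside the totally singular subUm. -/
import Mathlib
import Cfsg.Prelude.Def_GeometricClasses
import Cfsg.Prelude.Def_Classical
import Cfsg.Agent.Helper35.S88Defs
import Cfsg.Agent.Helper98.ELPDefs
import Cfsg.Agent.Helper98.S90T2Defs
import Cfsg.Agent.Helper47.ELPAPP
import Cfsg.Agent.Helper11.S90T2EMBAPP

set_option autoImplicit false

namespace Cfsg.Agent.Helper11.S90T2

open Module Matrix Cfsg Cfsg.Geo Cfsg.Agent.Helper35.S88 Cfsg.Agent.Helper98.ELP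
  Cfsg.Agent.Helper98.S90T2
open scoped MatrixGroups

variable {n : Type} [Fintype n] [DecidableEq n] {F : Type*} [Field F]

/-- BADSING [S]: `qm` vanishes on `subUm`. -/
theorem bad_sing (a b : F) (v : (n ⊕ n) ⊕ Fin 2 → F) (hv : v ∈ subUm n F) : qm n F a b v = 0 := by
  obtain ⟨h1, h2⟩ := hv
  unfold qm
  rw [h2 0, h2 1]
  simp [h1]

theorem bad_range (T : Matrix n n F) (v : (n ⊕ n) ⊕ Fin 2 → F) :
    embM (siegM T) *ᵥ v - v ∈ subUm n F := by
  refine ⟨fun j => ?_, fun k => ?_⟩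
  · show (embM (siegM T) *ᵥ v) (.inl (.inr j)) - v (.inl (.inr j)) = 0
    rw [Cfsg.Agent.Helper11.S90T2.embM_mulVec_inl, Cfsg.Agent.Helper47.ELP.siegM_mulVec_inr,
      sub_self]
  · show (embM (siegM T) *ᵥ v) (.inr k) - v (.inr k) = 0
    rw [Cfsg.Agent.Helper11.S90T2.embM_mulVec_inr, sub_self]

end Cfsg.Agent.Helper11.S90T2
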