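/- Sub-CALL S90T2 (helper98), piece EMBISO: the block embedding maps isometries to isometries. -/
import Mathlib
import Cfsg.Prelude.Def_GeometricClasses
import Cfsg.Prelude.Def_Classical
import Cfsg.Agent.Helper35.S88Defs
import Cfsg.Agent.Helper98.ELPDefs
import Cfsg.Agent.Helper98.S90T2Defs
import Cfsg.Agent.Helper11.S90T2EMBAPP

set_option autoImplicit false

namespace Cfsg.Agent.Helper11.S90T2

open Module Matrix Cfsg Cfsg.Geo Cfsg.Agent.Helper35.S88 Cfsg.Agent.Helper98.ELP
  Cfsg.Agent.Helper98.S90T2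
open scoped MatrixGroups

variable {n : Type} [Fintype n] [DecidableEq n] {F : Type*} [Field F]

/-- EMBISO [S]: `emb g` changes only the `inl` part, by `g`. -/
theorem emb_mem_iso (a b : F) (g : GL (n ⊕ n) F) (hg : g ∈ Cfsg.isometryGroup F (qp n F)) :
    emb g ∈ Cfsg.isometryGroup F (qm n F a b) := by
  intro u v
  show qm n F a b (embM (g : Matrix (n ⊕ n) (n ⊕ n) F) *ᵥ u) = qm n F a b u
  have h1 : qp n F ((g : Matrix (n ⊕ n) (n ⊕ n) F) *ᵥ (fun j => u (.inl j))) =
      qp n F (fun j => u (.inl j)) := hg (fun j => u (.inl j)) (fun j => u (.inl j))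
  unfold qm
  simp only [Cfsg.Agent.Helper11.S90T2.embM_mulVec_inl, Cfsg.Agent.Helper11.S90T2.embM_mulVec_inr]
  congr 1

end Cfsg.Agent.Helper11.S90T2
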