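/- Sub-CALL S90T2 (helper98), piece EMBOMEGA: the block embedding maps Omega into Omega. -/
import Mathlib
import Cfsg.Prelude.Def_GeometricClasses
import Cfsg.Prelude.Def_Classical
import Cfsg.Agent.Helper35.S88Defs
import Cfsg.Agent.Helper98.ELPDefs
import Cfsg.Agent.Helper98.S90T2Defs
import Cfsg.Agent.Helper11.S90T2EMBISO

set_option autoImplicit false

namespace Cfsg.Agent.Helper11.S90T2

open Module Matrix Cfsg Cfsg.Geo Cfsg.Agent.Helper35.S88 Cfsg.Agent.Helper98.ELP
  Cfsg.Agent.Helper98.S90T2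
open scoped MatrixGroups

variable {n : Type} [Fintype n] [DecidableEq n] {F : Type*} [Field F]

theorem embIso_mem (a b : F) (x : Cfsg.isometryGroup F (qp n F)) :
    emb (x : GL (n ⊕ n) F) ∈ Cfsg.isometryGroup F (qm n F a b) :=
  Cfsg.Agent.Helper11.S90T2.emb_mem_iso a b (x : GL (n ⊕ n) F) x.2

/-- the block embedding between the isometry groups -/
def embIso (a b : F) : Cfsg.isometryGroup F (qp n F) →* Cfsg.isometryGroup F (qm n F a b) where
  toFun x := ⟨emb (x : GL (n ⊕ n) F), embIso_mem a b x⟩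
  map_one' := Subtype.ext (map_one emb)
  map_mul' x y := Subtype.ext (map_mul emb (x : GL (n ⊕ n) F) (y : GL (n ⊕ n) F))

theorem embIso_coe (a b : F) (x : Cfsg.isometryGroup F (qp n F)) :
    ((embIso a b x : Cfsg.isometryGroup F (qm n F a b)) : GL ((n ⊕ n) ⊕ Fin 2) F) =
      emb (x : GL (n ⊕ n) F) := rfl

theorem embIso_comm (a b : F) (x : Cfsg.isometryGroup F (qp n F))
    (hx : x ∈ commutator (Cfsg.isometryGroup F (qp n F))) :
    embIso a b x ∈ commutator (Cfsg.isometryGroup F (qm n F a b)) := by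
  have h1 : embIso a b x ∈ (commutator (Cfsg.isometryGroup F (qp n F))).map (embIso a b) :=
    Subgroup.mem_map_of_mem (embIso a b) hx
  rw [commutator_def, Subgroup.map_commutator] at h1
  rw [commutator_def]
  exact Subgroup.commutator_mono le_top le_top h1

/-- EMBOMEGA [S-M]: `emb` restricts to a hom between the isometry groups, and a hom maps the
commutator subgroup into the commutator subgroup. -/
theorem emb_mem_omega (a b : F) (g : GL (n ⊕ n) F) (hg : g ∈ Cfsg.Geo.omegaGL (qp n F)) :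
    emb g ∈ Cfsg.Geo.omegaGL (qm n F a b) := by
  unfold Cfsg.Geo.omegaGL at hg ⊢
  rw [Subgroup.mem_map] at hg ⊢
  obtain ⟨g', hg', hgg⟩ := hg
  refine ⟨embIso a b g', embIso_comm a b g' hg', ?_⟩
  rw [← hgg]
  exact embIso_coe a b g'

end Cfsg.Agent.Helper11.S90T2
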