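/-
CALL S5666 (helper71), piece CO4 (double): `quadric_lemma`.

`Δ_w(X) := r_w X r_{-w} + r_{-w} X r_w - 2 X` maps `U` to `U` (`r_w = ruw S u w`, `w ⟂ u`) and
equals `-q(w) (X P + P X) - 2 N_w X N_w + (q(w)²/2) P X P`; for `e ⟂ f` non-singular in `u^⊥`,
`Δ_f (Δ_e D) = 2 q(e) q(f) bl S u (D u) • P`.
-/
import Mathlib
import Cfsg.Prelude.Def_GeometricClasses
import Cfsg.Agent.Helper71.SQMain
import Cfsg.Agent.Helper71.SGDefs

set_option autoImplicit false
set_option linter.unusedVariables false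

namespace Cfsg.Agent.Helper11.SGCO4

open Matrix Cfsg.Agent.Helper71.T4 Cfsg.Agent.Helper71.SO Cfsg.Agent.Helper71.SQ
open Cfsg.Agent.Helper71.SG
open Cfsg.Agent.Helper11.SORT Cfsg.Agent.Helper11.SORP
open scoped Kronecker

variable {F : Type*} [Field F] {m n : ℕ}

/-! ### geometry -/

theorem co4_perp3 (hn : 4 ≤ n) (v₁ v₂ v₃ : Fin n → F) :
    ∃ β : Fin n → F, β ≠ 0 ∧ β ⬝ᵥ v₁ = 0 ∧ β ⬝ᵥ v₂ = 0 ∧ β ⬝ᵥ v₃ = 0 := by
  let f : (Fin n → F) →ₗ[F] (Fin 3 → F) :=
    { toFun := fun β => ![β ⬝ᵥ v₁, β ⬝ᵥ v₂, β ⬝ᵥ v₃]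
      map_add' := by
        intro x y
        ext i
        fin_cases i <;> simp [add_dotProduct]
      map_smul' := by
        intro c x
        ext i
        fin_cases i <;> simp [smul_dotProduct] }
  have hk : LinearMap.ker f ≠ ⊥ := by
    apply LinearMap.ker_ne_bot_of_finrank_lt
    simp only [Module.finrank_pi, Fintype.card_fin]
    omega
  obtain ⟨β, hβ, hβ0⟩ := (Submodule.ne_bot_iff _).1 hk
  refine ⟨β, hβ0, ?_, ?_, ?_⟩
  · have := congrFun (LinearMap.mem_ker.1 hβ) 0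
    simpa [f] using this
  · have := congrFun (LinearMap.mem_ker.1 hβ) 1
    simpa [f] using this
  · have := congrFun (LinearMap.mem_ker.1 hβ) 2
    simpa [f] using this

/-- a non-singular vector orthogonal to the singular vector `u` -/
theorem co4_exists_e (hn : 3 ≤ n) (h2 : (2 : F) ≠ 0) (S : Matrix (Fin n) (Fin n) F) (hS : Sᵀ = S)
    (hdet : S.det ≠ 0) (u : Fin n → F) (hu : u ≠ 0) (huu : bl S u u = 0) :
    ∃ w : Fin n → F, bl S u w = 0 ∧ bl S w w ≠ 0 := by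
  by_contra hcon
  push Not at hcon
  obtain ⟨x₁, hx₁'⟩ := Cfsg.Agent.Helper96.T5.exists_bf_eq_one S hdet u hu
  have hx₁ : bl S u x₁ = 1 := hx₁'
  obtain ⟨z, hz, hz1, hz2⟩ := exists_perp2 hn (S *ᵥ u) (S *ᵥ x₁)
  have hzu : bl S z u = 0 := hz1
  have hzx : bl S z x₁ = 0 := hz2
  have huz : bl S u z = 0 := by rw [bl_comm S hS, hzu]
  obtain ⟨y, hy'⟩ := Cfsg.Agent.Helper96.T5.exists_bf_eq_one S hdet z hz
  have hy : bl S z y = 1 := hy'
  have hv' : bl S u (y - bl S u y • x₁) = 0 := by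
    rw [bl_sub_right, bl_smul_right, hx₁, mul_one, sub_self]
  have hq1 := hcon z huz
  have hq2 := hcon _ hv'
  have hq3 := hcon (z + (y - bl S u y • x₁)) (by rw [bl_add_right, huz, hv', add_zero])
  rw [bl_add_left, bl_add_right, bl_add_right, hq1, hq2,
    bl_comm S hS (y - bl S u y • x₁) z] at hq3
  have h3 : bl S z (y - bl S u y • x₁) = 0 := by
    have h4 : (2 : F) * bl S z (y - bl S u y • x₁) = 0 := by linear_combination hq3
    rcases mul_eq_zero.mp h4 with h | h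
    · exact absurd h h2
    · exact h
  rw [bl_sub_right, bl_smul_right, hzx, mul_zero, sub_zero, hy] at h3
  exact one_ne_zero h3

/-- a second non-singular vector orthogonal to `u` and to `e` -/
theorem co4_exists_f (hn : 4 ≤ n) (h2 : (2 : F) ≠ 0) (S : Matrix (Fin n) (Fin n) F) (hS : Sᵀ = S)
    (hdet : S.det ≠ 0) (u : Fin n → F) (hu : u ≠ 0) (huu : bl S u u = 0)
    (e : Fin n → F) (hue : bl S u e = 0) (hee : bl S e e ≠ 0) :
    ∃ f : Fin n → F, bl S u f = 0 ∧ bl S e f = 0 ∧ bl S f f ≠ 0 := by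
  by_contra hcon
  push Not at hcon
  obtain ⟨x₁, hx₁'⟩ := Cfsg.Agent.Helper96.T5.exists_bf_eq_one S hdet u hu
  have hx₁ : bl S u x₁ = 1 := hx₁'
  obtain ⟨z, hz, hz1, hz2, hz3⟩ := co4_perp3 hn (S *ᵥ u) (S *ᵥ x₁) (S *ᵥ e)
  have hzu : bl S z u = 0 := hz1
  have hzx : bl S z x₁ = 0 := hz2
  have hze : bl S z e = 0 := hz3
  have huz : bl S u z = 0 := by rw [bl_comm S hS, hzu]
  have hez : bl S e z = 0 := by rw [bl_comm S hS, hze]
  obtain ⟨y, hy'⟩ := Cfsg.Agent.Helper96.T5.exists_bf_eq_one S hdet z hz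
  have hy : bl S z y = 1 := hy'
  obtain ⟨c, hc⟩ : ∃ c : F, c * bl S e e = bl S e y - bl S u y * bl S e x₁ :=
    ⟨(bl S e y - bl S u y * bl S e x₁) / bl S e e, by field_simp⟩
  have huy' : bl S u (y - bl S u y • x₁ - c • e) = 0 := by
    rw [bl_sub_right, bl_sub_right, bl_smul_right, bl_smul_right, hx₁, hue]
    ring
  have hey' : bl S e (y - bl S u y • x₁ - c • e) = 0 := by
    rw [bl_sub_right, bl_sub_right, bl_smul_right, bl_smul_right]
    linear_combination -hc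
  have hzy' : bl S z (y - bl S u y • x₁ - c • e) = 1 := by
    rw [bl_sub_right, bl_sub_right, bl_smul_right, bl_smul_right, hzx, hze, hy]
    ring
  have hq1 := hcon z huz hez
  have hq2 := hcon _ huy' hey'
  have hq3 := hcon (z + (y - bl S u y • x₁ - c • e)) (by rw [bl_add_right, huz, huy', add_zero])
    (by rw [bl_add_right, hez, hey', add_zero])
  rw [bl_add_left, bl_add_right, bl_add_right, hq1, hq2,
    bl_comm S hS (y - bl S u y • x₁ - c • e) z, hzy'] at hq3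
  have h4 : (2 : F) = 0 := by linear_combination hq3
  exact h2 h4

/-! ### algebra -/

theorem co4_delta_gen (a : F) (N X : Matrix (Fin n) (Fin n) F) :
    (1 + N + a • (N * N)) * X * (1 - N + a • (N * N))
      + (1 - N + a • (N * N)) * X * (1 + N + a • (N * N)) + (-2 : F) • X
      = (2 * a) • (X * (N * N) + N * N * X) - (2 : F) • (N * X * N)
        + (2 * a * a) • (N * N * X * (N * N)) := by
  simp only [add_mul, mul_add, sub_mul, mul_sub, one_mul, mul_one, smul_mul_assoc,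
    mul_smul_comm, Matrix.mul_assoc, smul_add, smul_sub, smul_smul]
  module

theorem co4_delta_form (a : F) (ha : 2 * a = 1) (N P X : Matrix (Fin n) (Fin n) F) (q : F)
    (hN : N * N = -q • P) :
    (1 + N + a • (N * N)) * X * (1 - N + a • (N * N))
      + (1 - N + a • (N * N)) * X * (1 + N + a • (N * N)) + (-2 : F) • X
      = -q • (X * P + P * X) - (2 : F) • (N * X * N) + (a * q * q) • (P * X * P) := by
  rw [co4_delta_gen, ha, one_smul, one_mul, hN]
  simp only [smul_mul_assoc, mul_smul_comm, smul_add, smul_smul, Matrix.mul_assoc]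
  module

theorem co4_final (a q₁ q₂ β : F) (P N₁ N₂ D X : Matrix (Fin n) (Fin n) F)
    (hPP : P * P = 0) (h1 : N₁ * P = 0) (h2 : P * N₁ = 0) (h3 : N₂ * P = 0) (h4 : P * N₂ = 0)
    (h5 : N₂ * N₁ = 0) (hPDP : P * D * P = β • P)
    (hX : X = -q₁ • (D * P + P * D) - (2 : F) • (N₁ * D * N₁) + (a * q₁ * q₁) • (P * D * P)) :
    -q₂ • (X * P + P * X) - (2 : F) • (N₂ * X * N₂) + (a * q₂ * q₂) • (P * X * P)
      = (2 * q₁ * q₂ * β) • P := by
  have hPDP' : P * (D * P) = β • P := by rw [← Matrix.mul_assoc, hPDP]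
  have hXP : X * P = -(q₁ * β) • P := by
    rw [hX]
    simp only [add_mul, sub_mul, smul_mul_assoc, Matrix.mul_assoc, hPP, h1, hPDP', mul_zero,
      zero_add, smul_zero, sub_zero, add_zero, smul_smul]
    congr 1
    ring
  have hPX : P * X = -(q₁ * β) • P := by
    rw [hX]
    simp only [mul_add, mul_sub, mul_smul_comm, ← Matrix.mul_assoc, hPP, h2, hPDP, zero_mul,
      add_zero, smul_zero, sub_zero, smul_smul]
    congr 1
    ring
  have hNX : N₂ * X = -q₁ • (N₂ * D * P) := by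
    rw [hX]
    simp only [mul_add, mul_sub, mul_smul_comm, ← Matrix.mul_assoc, h3, h5, zero_mul,
      add_zero, smul_zero, sub_zero]
  have hNXN : N₂ * X * N₂ = 0 := by
    rw [hNX, smul_mul_assoc, Matrix.mul_assoc, Matrix.mul_assoc, h4, mul_zero, mul_zero,
      smul_zero]
  have hPXP : P * X * P = 0 := by
    rw [hPX, smul_mul_assoc, hPP, smul_zero]
  rw [hPXP, hNXN, hXP, hPX]
  module

/-! ### the relations -/

theorem co4_P_mulVec (S : Matrix (Fin n) (Fin n) F) (u x : Fin n → F) :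
    vecMulVec u (S *ᵥ u) *ᵥ x = bl S x u • u := vmvS_mulVec S u u x

theorem co4_NN (S : Matrix (Fin n) (Fin n) F) (hS : Sᵀ = S) (u w : Fin n → F)
    (huu : bl S u u = 0) (huw : bl S u w = 0) :
    Nuw S u w * Nuw S u w = -(bl S w w) • vecMulVec u (S *ᵥ u) := by
  have hwu : bl S w u = 0 := by rw [bl_comm S hS, huw]
  apply mv_ext
  intro x
  rw [← Matrix.mulVec_mulVec, Nuw_mulVec, Nuw_mulVec, Matrix.smul_mulVec, co4_P_mulVec]
  simp only [bl_sub_left, bl_smul_left, huu, huw, hwu, mul_zero, sub_zero, zero_sub, zero_smul]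
  ext i
  simp only [Pi.smul_apply, smul_eq_mul]
  ring

theorem co4_NP (S : Matrix (Fin n) (Fin n) F) (hS : Sᵀ = S) (u w : Fin n → F)
    (huu : bl S u u = 0) (huw : bl S u w = 0) :
    Nuw S u w * vecMulVec u (S *ᵥ u) = 0 := by
  apply mv_ext
  intro x
  rw [← Matrix.mulVec_mulVec, co4_P_mulVec, Nuw_mulVec, Matrix.zero_mulVec]
  simp only [bl_smul_left, huu, huw, mul_zero, zero_smul, sub_zero]

theorem co4_PN (S : Matrix (Fin n) (Fin n) F) (hS : Sᵀ = S) (u w : Fin n → F)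
    (huu : bl S u u = 0) (huw : bl S u w = 0) :
    vecMulVec u (S *ᵥ u) * Nuw S u w = 0 := by
  have hwu : bl S w u = 0 := by rw [bl_comm S hS, huw]
  apply mv_ext
  intro x
  rw [← Matrix.mulVec_mulVec, Nuw_mulVec, co4_P_mulVec, Matrix.zero_mulVec]
  simp only [bl_sub_left, bl_smul_left, huu, hwu, mul_zero, sub_zero, zero_smul]

theorem co4_PP (S : Matrix (Fin n) (Fin n) F) (u : Fin n → F) (huu : bl S u u = 0) :
    vecMulVec u (S *ᵥ u) * vecMulVec u (S *ᵥ u) = 0 := by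
  apply mv_ext
  intro x
  rw [← Matrix.mulVec_mulVec, co4_P_mulVec, co4_P_mulVec, Matrix.zero_mulVec]
  simp only [bl_smul_left, huu, mul_zero, zero_smul]

theorem co4_NfNe (S : Matrix (Fin n) (Fin n) F) (hS : Sᵀ = S) (u e f : Fin n → F)
    (huu : bl S u u = 0) (hue : bl S u e = 0) (huf : bl S u f = 0) (hef : bl S e f = 0) :
    Nuw S u f * Nuw S u e = 0 := by
  have heu : bl S e u = 0 := by rw [bl_comm S hS, hue]
  apply mv_ext
  intro x
  rw [← Matrix.mulVec_mulVec, Nuw_mulVec, Nuw_mulVec, Matrix.zero_mulVec]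
  simp only [bl_sub_left, bl_smul_left, huu, huf, heu, hef, mul_zero, sub_zero, zero_smul]

theorem co4_PDP (S : Matrix (Fin n) (Fin n) F) (hS : Sᵀ = S) (u : Fin n → F)
    (D : Matrix (Fin n) (Fin n) F) :
    vecMulVec u (S *ᵥ u) * D * vecMulVec u (S *ᵥ u)
      = bl S u (D *ᵥ u) • vecMulVec u (S *ᵥ u) := by
  apply mv_ext
  intro x
  rw [← Matrix.mulVec_mulVec, ← Matrix.mulVec_mulVec, co4_P_mulVec S u x, Matrix.mulVec_smul,
    co4_P_mulVec, bl_smul_left, Matrix.smul_mulVec, co4_P_mulVec, bl_comm S hS (D *ᵥ u) u,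
    smul_smul]
  congr 1
  ring

theorem co4_Nuw_neg (S : Matrix (Fin n) (Fin n) F) (u w : Fin n → F) :
    Nuw S u (-w) = -Nuw S u w := by
  apply mv_ext
  intro x
  rw [Nuw_mulVec, Matrix.neg_mulVec, Nuw_mulVec, bl_neg_right]
  ext i
  simp only [Pi.sub_apply, Pi.smul_apply, Pi.neg_apply, smul_eq_mul]
  ring

/-! ### the piece -/

theorem quadric_lemma (hn : 4 ≤ n) (h2 : (2 : F) ≠ 0)
    (S : Matrix (Fin n) (Fin n) F) (hS : Sᵀ = S) (hdet : S.det ≠ 0)
    (U : Set (Matrix (Fin n) (Fin n) F))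
    (hadd : ∀ D D' : Matrix (Fin n) (Fin n) F, D ∈ U → D' ∈ U → D + D' ∈ U)
    (hsmul : ∀ (c : F) (D : Matrix (Fin n) (Fin n) F), D ∈ U → c • D ∈ U)
    (hconj : ∀ B B' D : Matrix (Fin n) (Fin n) F, Bᵀ * S * B = S → B * B' = 1 → D ∈ U →
      B * D * B' ∈ U)
    (D : Matrix (Fin n) (Fin n) F) (hD : D ∈ U) (u : Fin n → F) (hu : u ≠ 0)
    (huu : bl S u u = 0) (huD : bl S u (D *ᵥ u) ≠ 0) :
    vecMulVec u (S *ᵥ u) ∈ U := by
  obtain ⟨e, hue, hee⟩ := co4_exists_e (by omega) h2 S hS hdet u hu huu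
  obtain ⟨f, huf, hef, hff⟩ := co4_exists_f hn h2 S hS hdet u hu huu e hue hee
  have ha : (2 : F) * 2⁻¹ = 1 := mul_inv_cancel₀ h2
  have hΔ : ∀ w : Fin n → F, bl S u w = 0 → ∀ X ∈ U,
      -(bl S w w) • (X * vecMulVec u (S *ᵥ u) + vecMulVec u (S *ᵥ u) * X)
        - (2 : F) • (Nuw S u w * X * Nuw S u w)
        + (2⁻¹ * bl S w w * bl S w w) • (vecMulVec u (S *ᵥ u) * X * vecMulVec u (S *ᵥ u))
        ∈ U := by
    intro w huw X hX
    have hNN := co4_NN S hS u w huu huw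
    have hr' : ruw S u (-w)
        = 1 - Nuw S u w + (2⁻¹ : F) • (Nuw S u w * Nuw S u w) := by
      unfold ruw
      rw [co4_Nuw_neg, neg_mul_neg, ← sub_eq_add_neg]
    have huw' : bl S u (-w) = 0 := by rw [bl_neg_right, huw, neg_zero]
    have h1 : ruw S u w * ruw S u (-w) = 1 := by
      rw [ruw_add h2 S hS u w (-w) huu huw huw', add_neg_cancel, ruw_zero]
    have h1' : ruw S u (-w) * ruw S u w = 1 := by
      rw [ruw_add h2 S hS u (-w) w huu huw' huw, neg_add_cancel, ruw_zero]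
    have m1 := hconj _ _ X (ruw_isom h2 S hS u w huu huw) h1 hX
    have m2 := hconj _ _ X (ruw_isom h2 S hS u (-w) huu huw') h1' hX
    have m3 := hadd _ _ (hadd _ _ m1 m2) (hsmul (-2) X hX)
    rw [hr'] at m3
    have key := co4_delta_form (2⁻¹) ha (Nuw S u w) (vecMulVec u (S *ᵥ u)) X (bl S w w) hNN
    rw [← key]
    exact m3
  have hX₁ := hΔ e hue D hD
  have hX₂ := hΔ f huf _ hX₁
  have hfin := co4_final (2⁻¹) (bl S e e) (bl S f f) (bl S u (D *ᵥ u)) (vecMulVec u (S *ᵥ u))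
    (Nuw S u e) (Nuw S u f) D _ (co4_PP S u huu) (co4_NP S hS u e huu hue)
    (co4_PN S hS u e huu hue) (co4_NP S hS u f huu huf) (co4_PN S hS u f huu huf)
    (co4_NfNe S hS u e f huu hue huf hef) (co4_PDP S hS u D) rfl
  rw [hfin] at hX₂
  have hne : 2 * bl S e e * bl S f f * bl S u (D *ᵥ u) ≠ 0 :=
    mul_ne_zero (mul_ne_zero (mul_ne_zero h2 hee) hff) huD
  have h9 := hsmul (2 * bl S e e * bl S f f * bl S u (D *ᵥ u))⁻¹ _ hX₂
  rw [smul_smul, inv_mul_cancel₀ hne, one_smul] at h9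
  exact h9

end Cfsg.Agent.Helper11.SGCO4
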