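import Mathlib
import Cfsg.Agent.Helper13.TIDefs
import Cfsg.Agent.Helper11.TIFIX
import Cfsg.Agent.Helper11.TISUMTI
import Cfsg.Agent.Helper59.TIMAXTI

set_option autoImplicit false

/-! CALL S5955 piece B2P (helper11). -/

namespace Cfsg.Agent.Helper11.TI5955

open Module Polynomial
open Cfsg.Agent.Helper42.SpForm Cfsg.Agent.Helper42.SpGroup Cfsg.Agent.Helper42.SpModels
open Cfsg.Agent.Helper13.TIsp Cfsg.Agent.Helper90.BG

section geom2

variable {F : Type*} [Field F] {V : Type*} [AddCommGroup V] [Module F V] [FiniteDimensional F V]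
  (B : LinearMap.BilinForm F V)

/-- B2P (uses FIX with r = 2, LAG, SUMTI) -/
theorem ti_b2p (halt : ∀ v, B v v = 0) (hnd : ∀ v, (∀ w, B v w = 0) → v = 0)
    (T : Module.End F V) (hT : Preserves B T) (h2 : (2 : F) ≠ 0) (hT2 : T ^ 2 = 1) (d m : ℕ)
    (hdim : finrank F V = 2 * d) (hmd : m ≤ d) :
    ∃ W : Submodule F V, finrank F W = m ∧ TI B W ∧ W.map T ≤ W := by
  have h2' : ((2 : ℕ) : F) ≠ 0 := by exact_mod_cast h2
  obtain ⟨-, hcompl, ho1, ho2, hCnd, hDnd⟩ := ti_fix B halt hnd T hT 2 h2' hT2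
  obtain ⟨hCev, hCl⟩ := Cfsg.Agent.Helper59.TI5955.ti_lag B halt (LinearMap.ker (T - 1)) hCnd
  obtain ⟨hDev, hDl⟩ := Cfsg.Agent.Helper59.TI5955.ti_lag B halt (LinearMap.range (T - 1)) hDnd
  have hsum : finrank F (LinearMap.ker (T - 1)) + finrank F (LinearMap.range (T - 1))
      = 2 * d := by
    rw [← hdim, add_comm]; exact LinearMap.finrank_range_add_finrank_ker (T - 1)
  obtain ⟨c, hc⟩ := hCev
  obtain ⟨e, he⟩ := hDev
  obtain ⟨A, hAC, hATI, hAfin⟩ := hCl (min m c) (by omega)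
  obtain ⟨A', hA'D, hA'TI, hA'fin⟩ := hDl (m - min m c) (by omega)
  obtain ⟨hTIsum, hfin⟩ := ti_sum B A A' _ _ hAC hA'D hcompl.inf_eq_bot ho1 ho2 hATI hA'TI
  refine ⟨A ⊔ A', by rw [hfin, hAfin, hA'fin]; omega, hTIsum, ?_⟩
  rw [Submodule.map_sup]
  apply sup_le_sup
  · rintro _ ⟨v, hv, rfl⟩
    have h3 : T v = v := by
      have := hAC hv
      rwa [LinearMap.mem_ker, LinearMap.sub_apply, Module.End.one_apply, sub_eq_zero] at this
    rw [h3]; exact hv
  · rintro _ ⟨v, hv, rfl⟩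
    obtain ⟨w, hw⟩ := hA'D hv
    have h3 : T (T w) = w := by
      have := congrArg (fun S : Module.End F V => S w) hT2
      simpa [pow_two] using this
    have h4 : T v = -v := by
      rw [← hw]
      simp only [LinearMap.sub_apply, Module.End.one_apply, map_sub, h3]
      abel
    rw [h4]; exact Submodule.neg_mem _ hv

end geom2

end Cfsg.Agent.Helper11.TI5955
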